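import Groth.Agent.EtAlg.K363.GlueAlg
import Mathlib.RingTheory.FinitePresentation
import Mathlib.RingTheory.RingHom.FinitePresentation
import Mathlib.RingTheory.Localization.Algebra
import Mathlib.RingTheory.Localization.Ideal
import Mathlib.RingTheory.Flat.Basic
import Mathlib.RingTheory.Flat.Equalizer

/-!
Finite presentation of flat algebras can be checked on a glueing pair.
-/

set_option autoImplicit false
universe u

open TensorProduct

namespace K363.GlueFP

/-- if the ideal generated by the image of `K` is finitely generated, it is generated by the image of a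
finite subset of `K`. -/
theorem exists_finset_map {P Q : Type u} [CommRing P] [CommRing Q] (i : P →+* Q) (K : Ideal P)
    (h : (K.map i).FG) : ∃ s : Finset P, (s : Set P) ⊆ K ∧ (Ideal.span (s : Set P)).map i = K.map i := by
  classical
  rw [Ideal.map] at h
  obtain ⟨t, ht1, ht2⟩ := (Submodule.fg_span_iff_fg_span_finset_subset _).1 h
  have ht3 : ∀ x : Q, ∃ y : P, x ∈ t → (y ∈ K ∧ i y = x) := by
    intro x
    by_cases hx : x ∈ t
    · obtain ⟨y, hy1, hy2⟩ := ht1 hx
      exact ⟨y, fun _ => ⟨hy1, hy2⟩⟩
    · exact ⟨0, fun h => absurd h hx⟩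
  choose g hg using ht3
  refine ⟨t.image g, ?_, ?_⟩
  · intro x hx
    obtain ⟨y, hy, rfl⟩ := Finset.mem_image.1 (Finset.mem_coe.1 hx)
    exact (hg y hy).1
  · rw [Ideal.map_span, Finset.coe_image, Set.image_image]
    have : (fun x => i (g x)) '' (t : Set Q) = t := by
      ext y
      constructor
      · rintro ⟨x, hx, rfl⟩; simp only; rw [(hg x hx).2]; exact hx
      · intro hy; exact ⟨y, hy, (hg y hy).2⟩
    rw [this]
    exact ht2.symm

section

variable {R R' : Type u} [CommRing R] [CommRing R'] [Algebra R R'] {f : R}

theorem exists_lTensor_eq {P : Type u} [CommRing P] [Algebra R P] (I : Ideal P) (x : R' ⊗[R] P)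
    (hx : x ∈ I.map (Algebra.TensorProduct.includeRight : P →ₐ[R] R' ⊗[R] P).toRingHom) :
    ∃ y, LinearMap.lTensor R' (I.restrictScalars R).subtype y = x := by
  have key : ∀ (a : R' ⊗[R] P) (x' : R' ⊗[R] (I.restrictScalars R)),
      ∃ y, LinearMap.lTensor R' (I.restrictScalars R).subtype y =
        a * LinearMap.lTensor R' (I.restrictScalars R).subtype x' := by
    intro a x'
    induction a with
    | zero => exact ⟨0, by rw [map_zero, zero_mul]⟩
    | add a b ha hb =>
      obtain ⟨x1, h1⟩ := ha
      obtain ⟨x2, h2⟩ := hb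
      exact ⟨x1 + x2, by rw [map_add, h1, h2, add_mul]⟩
    | tmul r p =>
      induction x' with
      | zero => exact ⟨0, by rw [map_zero, mul_zero]⟩
      | add a b ha hb =>
        obtain ⟨x1, h1⟩ := ha
        obtain ⟨x2, h2⟩ := hb
        exact ⟨x1 + x2, by rw [map_add, h1, h2, map_add, mul_add]⟩
      | tmul r' k =>
        refine ⟨(r * r') ⊗ₜ[R] (⟨p * k, Ideal.mul_mem_left _ _ k.2⟩ : I.restrictScalars R), ?_⟩
        rw [LinearMap.lTensor_tmul, LinearMap.lTensor_tmul,
          Submodule.subtype_apply, Algebra.TensorProduct.tmul_mul_tmul]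
        rfl
  induction hx using Submodule.span_induction with
  | mem x hx =>
    obtain ⟨k, hk, rfl⟩ := hx
    exact ⟨(1 : R') ⊗ₜ[R] (⟨k, hk⟩ : I.restrictScalars R), by rw [LinearMap.lTensor_tmul]; rfl⟩
  | zero => exact ⟨0, map_zero _⟩
  | add x y _ _ hx hy =>
    obtain ⟨x', hx⟩ := hx
    obtain ⟨y', hy⟩ := hy
    exact ⟨x' + y', by rw [map_add, hx, hy]⟩
  | smul a x _ hx =>
    obtain ⟨x', rfl⟩ := hx
    exact key a x'

theorem lTensor_mem {P : Type u} [CommRing P] [Algebra R P] (I : Ideal P)
    (x : R' ⊗[R] (I.restrictScalars R)) :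
    LinearMap.lTensor R' (I.restrictScalars R).subtype x ∈
      I.map (Algebra.TensorProduct.includeRight : P →ₐ[R] R' ⊗[R] P).toRingHom := by
  induction x with
  | zero => rw [map_zero]; exact Submodule.zero_mem _
  | add a b ha hb => rw [map_add]; exact Submodule.add_mem _ ha hb
  | tmul r k =>
    rw [LinearMap.lTensor_tmul]
    have : r ⊗ₜ[R] (I.restrictScalars R).subtype k = (r ⊗ₜ[R] (1 : P)) *
        (Algebra.TensorProduct.includeRight : P →ₐ[R] R' ⊗[R] P).toRingHom k := by
      change _ = (r ⊗ₜ[R] (1 : P)) * ((1 : R') ⊗ₜ[R] (k : P))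
      rw [Algebra.TensorProduct.tmul_mul_tmul, mul_one, one_mul]; rfl
    rw [this]
    exact Ideal.mul_mem_left _ _ (Ideal.mem_map_of_mem _ k.2)

theorem fg_map_loc {P : Type u} [CommRing P] [Algebra R P] [Algebra.FinitePresentation R P]
    (B : Type u) [CommRing B] [Algebra R B] (g : P →ₐ[R] B) (hg : Function.Surjective g)
    (h1 : (Localization.awayMap (algebraMap R B) f).FinitePresentation) :
    ((RingHom.ker g).map (algebraMap P (Localization.Away (algebraMap R P f)))).FG := by
  have hgf : g (algebraMap R P f) = algebraMap R B f := g.commutes f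
  have hT : Submonoid.map g.toRingHom (Submonoid.powers (algebraMap R P f)) =
      Submonoid.powers (algebraMap R B f) := by
    rw [Submonoid.map_powers]
    exact congrArg _ hgf
  have hle : Submonoid.powers (algebraMap R P f) ≤
      (Submonoid.powers (algebraMap R B f)).comap g.toRingHom := by
    rw [← hT]; exact Submonoid.le_comap_map _
  let gf : Localization.Away (algebraMap R P f) →+* Localization.Away (algebraMap R B f) :=
    IsLocalization.map _ g.toRingHom hle
  have hker : RingHom.ker gf = (RingHom.ker g).map
    (algebraMap P (Localization.Away (algebraMap R P f))) := IsLocalization.ker_map _ g.toRingHom hT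
  rw [← hker]
  have hsurj : Function.Surjective gf := by
    intro y
    obtain ⟨⟨b, ⟨_, m, rfl⟩⟩, rfl⟩ := IsLocalization.mk'_surjective
      (Submonoid.powers (algebraMap R B f)) y
    obtain ⟨p, rfl⟩ := hg b
    refine ⟨IsLocalization.mk' _ p (⟨_, m, rfl⟩ : Submonoid.powers (algebraMap R P f)), ?_⟩
    simp only [gf]
    rw [IsLocalization.map_mk']
    congr 1
    apply Subtype.ext
    change g (algebraMap R P f ^ m) = algebraMap R B f ^ m
    rw [map_pow, hgf]
  have hP0 : (algebraMap R P).FinitePresentation :=
    (RingHom.finitePresentation_algebraMap).2 inferInstance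
  have hPf : (Localization.awayMap (algebraMap R P) f).FinitePresentation :=
    RingHom.finitePresentation_localizationPreserves.away _ _ _ _ hP0
  have hcomp : gf.comp (Localization.awayMap (algebraMap R P) f) =
      Localization.awayMap (algebraMap R B) f := by
    apply IsLocalization.ringHom_ext (Submonoid.powers f)
    ext r
    simp only [RingHom.comp_apply, Localization.awayMap, IsLocalization.Away.map,
      IsLocalization.map_eq, gf]
    exact congrArg _ (g.commutes r)
  let _ : Algebra (Localization.Away f) (Localization.Away (algebraMap R P f)) :=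
    (Localization.awayMap (algebraMap R P) f).toAlgebra
  let _ : Algebra (Localization.Away f) (Localization.Away (algebraMap R B f)) :=
    (Localization.awayMap (algebraMap R B) f).toAlgebra
  let gf' : Localization.Away (algebraMap R P f) →ₐ[Localization.Away f]
      Localization.Away (algebraMap R B f) :=
    { gf with commutes' := fun r => RingHom.congr_fun hcomp r }
  have : Algebra.FinitePresentation (Localization.Away f) (Localization.Away (algebraMap R P f)) := hPf
  have : Algebra.FinitePresentation (Localization.Away f) (Localization.Away (algebraMap R B f)) := h1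
  exact Algebra.FinitePresentation.ker_fG_of_surjective gf' hsurj

theorem fg_map_tensor {P : Type u} [CommRing P] [Algebra R P] [Algebra.FinitePresentation R P]
    (B : Type u) [CommRing B] [Algebra R B] (g : P →ₐ[R] B) (hg : Function.Surjective g)
    (h2 : Algebra.FinitePresentation R' (R' ⊗[R] B)) :
    ((RingHom.ker g).map
      (Algebra.TensorProduct.includeRight : P →ₐ[R] R' ⊗[R] P).toRingHom).FG := by
  have h3 : Function.Surjective (Algebra.TensorProduct.map (AlgHom.id R' R') g) :=
    LinearMap.lTensor_surjective R' hg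
  have h4 := Algebra.FinitePresentation.ker_fG_of_surjective
    (Algebra.TensorProduct.map (AlgHom.id R' R') g) h3
  have h5 := Algebra.TensorProduct.lTensor_ker (A := R') (R := R) (g := g) hg
  have h6 : RingHom.ker (Algebra.TensorProduct.map (AlgHom.id R' R') g).toRingHom =
      (RingHom.ker g).map
        (Algebra.TensorProduct.includeRight : P →ₐ[R] R' ⊗[R] P).toRingHom := h5
  rwa [h6] at h4

/-- Finite presentation from a glueing pair, flat case. -/
theorem fp_aux1 (hq : EtGlue.QuotPowBijective R R' f) {P : Type u} [CommRing P] [Algebra R P]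
    [Algebra.FinitePresentation R P]
    (B : Type u) [CommRing B] [Algebra R B] [Module.Flat R B]
    (g : P →ₐ[R] B) (hg : Function.Surjective g)
    (h1 : (Localization.awayMap (algebraMap R B) f).FinitePresentation)
    (h2 : Algebra.FinitePresentation R' (R' ⊗[R] B)) : Algebra.FinitePresentation R B := by
  classical
  obtain ⟨s₁, hs₁, hs₁'⟩ := exists_finset_map _ _ (fg_map_tensor (R' := R') B g hg h2)
  obtain ⟨s₂, hs₂, hs₂'⟩ := exists_finset_map _ _ (fg_map_loc B g hg h1)
  -- the candidate
  let K : Ideal P := RingHom.ker g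
  let K₀ : Ideal P := Ideal.span ((s₁ ∪ s₂ : Finset P) : Set P)
  have hK₀ : K₀ ≤ K := by
    rw [Ideal.span_le, Finset.coe_union]
    exact Set.union_subset hs₁ hs₂
  have h5 : K₀.map (Algebra.TensorProduct.includeRight : P →ₐ[R] R' ⊗[R] P).toRingHom =
      K.map (Algebra.TensorProduct.includeRight : P →ₐ[R] R' ⊗[R] P).toRingHom := by
    apply le_antisymm (Ideal.map_mono hK₀)
    rw [← hs₁']
    apply Ideal.map_mono
    apply Ideal.span_mono
    rw [Finset.coe_union]; exact Set.subset_union_left
  have h6 : K₀.map (algebraMap P (Localization.Away (algebraMap R P f))) =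
      K.map (algebraMap P (Localization.Away (algebraMap R P f))) := by
    apply le_antisymm (Ideal.map_mono hK₀)
    rw [← hs₂']
    apply Ideal.map_mono
    apply Ideal.span_mono
    rw [Finset.coe_union]; exact Set.subset_union_right
  -- `K₀ → K` is surjective
  let ι : (K₀.restrictScalars R) →ₗ[R] (K.restrictScalars R) := Submodule.inclusion hK₀
  have hinj : Function.Injective (LinearMap.lTensor R' (K.restrictScalars R).subtype) :=
    LinearMap.lTensor_injective_of_exact_of_flat g.toLinearMap hg (K.restrictScalars R).subtype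
      (Submodule.injective_subtype _) (by
        intro x
        constructor
        · intro hx; exact ⟨⟨x, hx⟩, rfl⟩
        · rintro ⟨y, rfl⟩; exact y.2) R'
  have hsur : Function.Surjective ι := by
    apply K363.GlueAlg.surjective_of_glueing hq ι
    · intro x
      have hx := lTensor_mem K x
      rw [← h5] at hx
      obtain ⟨y, hy⟩ := exists_lTensor_eq K₀ _ hx
      refine ⟨y, hinj ?_⟩
      rw [← hy, ← LinearMap.comp_apply, ← LinearMap.lTensor_comp]
      rfl
    · intro k
      have hk : algebraMap P (Localization.Away (algebraMap R P f)) k ∈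
          K₀.map (algebraMap P (Localization.Away (algebraMap R P f))) := by
        rw [h6]; exact Ideal.mem_map_of_mem _ k.2
      rw [IsLocalization.algebraMap_mem_map_algebraMap_iff (Submonoid.powers (algebraMap R P f))] at hk
      obtain ⟨_, ⟨m, rfl⟩, hm⟩ := hk
      refine ⟨m, ⟨_, hm⟩, ?_⟩
      apply Subtype.ext
      change f ^ m • (k : P) = algebraMap R P f ^ m * k
      rw [Algebra.smul_def, map_pow]
  have hKK : K = K₀ := by
    apply le_antisymm _ hK₀
    intro k hk
    obtain ⟨k₀, hk₀⟩ := hsur ⟨k, hk⟩
    have := congrArg Subtype.val hk₀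
    change (k₀ : P) = k at this
    rw [← this]; exact k₀.2
  have hKFG : (RingHom.ker g.toRingHom).FG := by
    change K.FG
    rw [hKK]
    exact ⟨s₁ ∪ s₂, rfl⟩
  exact Algebra.FinitePresentation.of_surjective hg hKFG

theorem fp_aux0 (hq : EtGlue.QuotPowBijective R R' f) 
    (B : Type u) [CommRing B] [Algebra R B] [Module.Flat R B] [h : Algebra.FiniteType R B]
    (h1 : (Localization.awayMap (algebraMap R B) f).FinitePresentation)
    (h2 : Algebra.FinitePresentation R' (R' ⊗[R] B)) : Algebra.FinitePresentation R B := by
  obtain ⟨n, g, hg⟩ := Algebra.FiniteType.iff_quotient_mvPolynomial''.1 h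
  exact fp_aux1 hq B g hg h1 h2

end

end K363.GlueFP
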