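import Groth.Prelude.Def_EtGlue
import Groth.Agent.Etalg.GlueBasic
import Groth.Agent.Etalg.GlueFlat
import Groth.Agent.S2004
import Groth.Agent.S2005
import Groth.Agent.S2006
import Mathlib.RingTheory.IsTensorProduct
import Mathlib.RingTheory.RingHom.Flat
import Mathlib.RingTheory.Localization.BaseChange
import Mathlib.RingTheory.Localization.Module
import Mathlib.RingTheory.LocalProperties.Basic

/-!
Base change of Beauville--Laszlo glueing data along `R → A`, and the comparison of
`R' ⊗_R A → R' ⊗_R B` with `A' → A' ⊗_A B`, `A' = R' ⊗_R A`.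
-/

set_option autoImplicit false
universe u

open TensorProduct

namespace K363.GlueAlg

open Groth.Agent.Etalg.GlueBasic

attribute [local instance] Algebra.TensorProduct.rightAlgebra

variable {R R' : Type u} [CommRing R] [CommRing R'] [Algebra R R'] {f : R}

/-- An `f`-power torsion module killed by `R' ⊗` is zero. -/
theorem subsingleton_of_torsion (hq : EtGlue.QuotPowBijective R R' f) {N : Type u}
    [AddCommGroup N] [Module R N] (h1 : ∀ n : N, (1 : R') ⊗ₜ[R] n = 0)
    (h2 : ∀ n : N, ∃ k : ℕ, f ^ k • n = 0) : Subsingleton N :=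
  ⟨fun a b => by
    rw [eq_zero_of_tmul_eq_zero_of_torsion hq h2 a (h1 a),
      eq_zero_of_tmul_eq_zero_of_torsion hq h2 b (h1 b)]⟩

/-- Surjectivity can be checked after `R' ⊗` and after inverting `f`. -/
theorem surjective_of_glueing (hq : EtGlue.QuotPowBijective R R' f) {M N : Type u}
    [AddCommGroup M] [Module R M] [AddCommGroup N] [Module R N] (g : M →ₗ[R] N)
    (h1 : Function.Surjective (LinearMap.lTensor R' g))
    (h2 : ∀ n : N, ∃ (k : ℕ) (m : M), f ^ k • n = g m) : Function.Surjective g := by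
  have hsub : Subsingleton (N ⧸ LinearMap.range g) := by
    apply subsingleton_of_torsion hq
    · intro c
      obtain ⟨n, rfl⟩ := Submodule.mkQ_surjective _ c
      obtain ⟨z, hz⟩ := h1 ((1 : R') ⊗ₜ[R] n)
      have h3 : LinearMap.lTensor R' (LinearMap.range g).mkQ ((1 : R') ⊗ₜ[R] n) =
          (1 : R') ⊗ₜ[R] (LinearMap.range g).mkQ n := LinearMap.lTensor_tmul _ _ _ _
      rw [← h3, ← hz, ← LinearMap.comp_apply, ← LinearMap.lTensor_comp,
        LinearMap.range_mkQ_comp, LinearMap.lTensor_zero, LinearMap.zero_apply]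
    · intro c
      obtain ⟨n, rfl⟩ := Submodule.mkQ_surjective _ c
      obtain ⟨k, m, hk⟩ := h2 n
      refine ⟨k, ?_⟩
      rw [← map_smul, hk]
      exact (Submodule.Quotient.mk_eq_zero _).2 ⟨m, rfl⟩
  rw [← LinearMap.range_eq_top]
  exact Submodule.Quotient.subsingleton_iff.1 hsub

section BaseChange

variable (A : Type u) [CommRing A] [Algebra R A]

/-- `QuotPowBijective` is stable under base change along `R → A`. -/
theorem quotPow_baseChange (hq : EtGlue.QuotPowBijective R R' f) :
    EtGlue.QuotPowBijective A (R' ⊗[R] A) (algebraMap R A f) := by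
  intro n hn
  have hpow : ∀ x : R' ⊗[R] A, algebraMap A (R' ⊗[R] A) (algebraMap R A f ^ n) * x = f ^ n • x := by
    intro x
    rw [← map_pow, ← IsScalarTower.algebraMap_apply R A (R' ⊗[R] A), Algebra.smul_def]
  constructor
  · rw [injective_iff_map_eq_zero]
    intro a ha
    obtain ⟨a, rfl⟩ := Ideal.Quotient.mk_surjective a
    rw [Ideal.quotientMap_mk, Ideal.Quotient.eq_zero_iff_mem, Ideal.map_span, Set.image_singleton,
      Ideal.mem_span_singleton] at ha
    obtain ⟨y, hy⟩ := ha
    rw [hpow] at hy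
    obtain ⟨a0, ha0⟩ := exists_smul_of_tmul_eq_smul hq n a y hy
    rw [Ideal.Quotient.eq_zero_iff_mem, Ideal.mem_span_singleton]
    exact ⟨a0, by rw [ha0, Algebra.smul_def, map_pow]⟩
  · intro x
    obtain ⟨x, rfl⟩ := Ideal.Quotient.mk_surjective x
    obtain ⟨a, y, hxy⟩ := exists_decomp_tensor hq n x
    refine ⟨Ideal.Quotient.mk _ a, ?_⟩
    rw [Ideal.quotientMap_mk, eq_comm, Ideal.Quotient.eq, Ideal.map_span, Set.image_singleton,
      Ideal.mem_span_singleton]
    refine ⟨y, ?_⟩
    rw [hpow, hxy]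
    exact add_sub_cancel_left _ _

/-- If `A` is glueable, `(A → R' ⊗_R A, f)` is a glueing pair. -/
theorem glueingPair_baseChange (hRR : EtGlue.IsGlueingPair R R' f)
    (hA : EtGlue.IsGlueable R R' f A) :
    EtGlue.IsGlueingPair A (R' ⊗[R] A) (algebraMap R A f) := by
  have hpow : ∀ (n : ℕ) (a : A), algebraMap R A f ^ n * a = f ^ n • a := by
    intro n a; rw [Algebra.smul_def, map_pow]
  have hpow' : ∀ (n : ℕ) (x : R' ⊗[R] A),
      algebraMap A (R' ⊗[R] A) (algebraMap R A f) ^ n * x = f ^ n • x := by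
    intro n x
    rw [← map_pow, ← map_pow, ← IsScalarTower.algebraMap_apply R A (R' ⊗[R] A), Algebra.smul_def]
  rw [Groth.Agent.S2004.result A (R' ⊗[R] A) (algebraMap R A f) (quotPow_baseChange A hRR.1)]
  obtain ⟨h1, h2⟩ := (Groth.Agent.S2005.result R R' f hRR.1 A).1.1 hA
  constructor
  · rintro a ⟨n, hn⟩ ha
    exact h1 a ⟨n, by rw [← hpow, hn]⟩ ha
  · rintro x ⟨n, hn⟩
    obtain ⟨a, ⟨m, hm⟩, ha⟩ := h2 x ⟨n, by rw [← hpow', hn]⟩
    exact ⟨a, ⟨m, by rw [hpow, hm]⟩, ha⟩

end BaseChange

section Compare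

variable (A B : Type u) [CommRing A] [CommRing B] [Algebra R A] [Algebra R B] [Algebra A B]
  [IsScalarTower R A B]

/-- `R' ⊗_R A → R' ⊗_R B` is `A' → A' ⊗_A B` up to isomorphism, `A' = R' ⊗_R A`. -/
theorem map_eq_comp :
    (Algebra.TensorProduct.map (AlgHom.id R R') (IsScalarTower.toAlgHom R A B)).toRingHom =
      (Algebra.IsPushout.cancelBaseChangeAlg R R' A (R' ⊗[R] A) B).toRingEquiv.toRingHom.comp
        (algebraMap (R' ⊗[R] A) ((R' ⊗[R] A) ⊗[A] B)) := by
  apply RingHom.ext
  intro x
  have h := Algebra.IsPushout.cancelBaseChange_symm_comp_lTensor (R := R) (A := A) (C := B) (S := R')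
  have h2 := DFunLike.congr_fun h x
  change (Algebra.IsPushout.cancelBaseChangeAlg R R' A (R' ⊗[R] A) B).symm
    ((Algebra.TensorProduct.lTensor R' (IsScalarTower.toAlgHom R A B)) x) = x ⊗ₜ[A] (1 : B) at h2
  change (Algebra.TensorProduct.map (AlgHom.id R R') (IsScalarTower.toAlgHom R A B)) x =
    (Algebra.IsPushout.cancelBaseChangeAlg R R' A (R' ⊗[R] A) B) (x ⊗ₜ[A] (1 : B))
  rw [← h2, AlgEquiv.apply_symm_apply]
  rfl

/-- The algebra map `A' → A' ⊗_A B` is `R' ⊗_R A → R' ⊗_R B` up to isomorphism. -/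
theorem algebraMap_eq_comp :
    algebraMap (R' ⊗[R] A) ((R' ⊗[R] A) ⊗[A] B) =
      (Algebra.IsPushout.cancelBaseChangeAlg R R' A (R' ⊗[R] A) B).symm.toRingEquiv.toRingHom.comp
      (Algebra.TensorProduct.map (AlgHom.id R R') (IsScalarTower.toAlgHom R A B)).toRingHom := by
  rw [map_eq_comp]
  apply RingHom.ext
  intro x
  exact ((Algebra.IsPushout.cancelBaseChangeAlg R R' A (R' ⊗[R] A) B).symm_apply_apply _).symm

/-- Properties stable under base change pass to `A_f → B_f` and `R' ⊗ A → R' ⊗ B`. -/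
theorem forward {P : ∀ {R S : Type u} [CommRing R] [CommRing S], (R →+* S) → Prop}
    (hPi : RingHom.RespectsIso P) (hPb : RingHom.IsStableUnderBaseChange P)
    (h : P (algebraMap A B)) :
    P (Localization.awayMap (algebraMap A B) (algebraMap R A f)) ∧
    P (Algebra.TensorProduct.map (AlgHom.id R R') (IsScalarTower.toAlgHom R A B)).toRingHom := by
  constructor
  · exact hPb.localizationPreserves.away _ _ _ _ h
  · rw [map_eq_comp]
    exact hPi.1 _ _ (hPb.tensorProduct _ h)

theorem respectsIso_iff {P : ∀ {R S : Type u} [CommRing R] [CommRing S], (R →+* S) → Prop}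
    (hPi : RingHom.RespectsIso P) :
    P (algebraMap (R' ⊗[R] A) ((R' ⊗[R] A) ⊗[A] B)) ↔
    P (Algebra.TensorProduct.map (AlgHom.id R R') (IsScalarTower.toAlgHom R A B)).toRingHom := by
  constructor
  · intro h; rw [map_eq_comp]; exact hPi.1 _ _ h
  · intro h; rw [algebraMap_eq_comp]; exact hPi.1 _ _ h

/-- `B_g` is the localized module of `B` over `A_g`, where the structure is `awayMap`. -/
theorem exists_locEquiv (A B : Type u) [CommRing A] [CommRing B] [Algebra A B] (g : A) :
    letI := (Localization.awayMap (algebraMap A B) g).toAlgebra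
    Nonempty (LocalizedModule (Submonoid.powers g) B ≃ₗ[Localization.Away g]
      Localization.Away (algebraMap A B g)) := by
  let _ : Algebra (Localization.Away g) (Localization.Away (algebraMap A B g)) :=
    (Localization.awayMap (algebraMap A B) g).toAlgebra
  let Bg := Localization.Away (algebraMap A B g)
  have : IsScalarTower A (Localization.Away g) Bg := IsScalarTower.of_algebraMap_eq (fun x => by
    rw [RingHom.algebraMap_toAlgebra, Localization.awayMap, IsLocalization.Away.map,
      IsLocalization.map_eq, ← IsScalarTower.algebraMap_apply])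
  have : IsLocalization (Algebra.algebraMapSubmonoid B (Submonoid.powers g)) Bg := by
    have h : Algebra.algebraMapSubmonoid B (Submonoid.powers g) =
      Submonoid.powers (algebraMap A B g) := by
      rw [Algebra.algebraMapSubmonoid, Submonoid.map_powers]
    rw [h]; infer_instance
  let e : LocalizedModule (Submonoid.powers g) B ≃ₗ[A] Bg :=
    IsLocalizedModule.iso (Submonoid.powers g) (IsScalarTower.toAlgHom A B Bg).toLinearMap
  exact ⟨e.extendScalarsOfIsLocalization (Submonoid.powers g) (Localization.Away g)⟩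

end Compare

end K363.GlueAlg
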