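import Groth.Agent.EtAlg.K363.RamCases

/-!
# Residually generated extensions of a DVR

If `z ∈ L` has, in every valuation subring `V` of `L` dominating the DVR `A`, a residue class whose first `n`
powers are linearly independent over the residue field of `A`, and `[L : K] ≤ n`, then `V` is unique, weakly
unramified and its residue field has degree `n`, spanned by the powers of `z`.  Special case: `z ^ p ≡ a` with the
residue class of `a` not a `p`-th power (`insep`).
-/

set_option autoImplicit false
universe u

open IsLocalRing EtRam Groth.Agent.Etalg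

namespace K363.RamCases

section main

variable {A K L : Type u} [CommRing A] [IsDomain A] [IsDiscreteValuationRing A]
  [Field K] [Algebra A K] [IsFractionRing A K] [Field L] [Algebra K L] [Algebra A L]
  [IsScalarTower A K L]

/-- the first `n` powers of `z` have residues independent over the residue field of `A`. -/
def Indep (A : Type u) {L : Type u} [CommRing A] [IsLocalRing A] [Field L] [Algebra A L]
    (V : ValuationSubring L) (z : L) (n : ℕ) : Prop :=
  V.valuation z ≤ 1 ∧ ∀ a : Fin n → A, V.valuation (∑ i, algebraMap A L (a i) * z ^ (i : ℕ)) < 1 →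
    ∀ i, a i ∈ maximalIdeal A

theorem Indep.le {π : A} (hπ : maximalIdeal A = Ideal.span {π}) {V : ValuationSubring L}
    (h : Dominates A (algebraMap A L) V) {z : L} {n : ℕ} (hz : Indep A V z n) (c : Fin n → K) (i : Fin n) :
    V.valuation (algebraMap K L (c i)) ≤ V.valuation (∑ j, c j • z ^ (j : ℕ)) := by
  obtain ⟨i₀, -, hmax⟩ := Finset.exists_max_image Finset.univ
    (fun i => V.valuation (algebraMap K L (c i))) ⟨i, Finset.mem_univ i⟩
  refine (hmax i (Finset.mem_univ i)).trans ?_
  by_contra hlt
  push Not at hlt
  have hc0 : algebraMap K L (c i₀) ≠ 0 := by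
    intro h0
    rw [h0, map_zero] at hlt
    exact absurd hlt (not_lt.2 zero_le)
  have hv0 : V.valuation (algebraMap K L (c i₀)) ≠ 0 := (Valuation.ne_zero_iff _).2 hc0
  have hc0' : c i₀ ≠ 0 := fun h0 => hc0 (by rw [h0, map_zero])
  have ha : ∀ j, ∃ a : A, algebraMap A K a = (c i₀)⁻¹ * c j := by
    intro j
    refine mem_range_of_val_le_one h hπ ?_
    rw [map_mul, map_inv₀, map_mul, map_inv₀]
    calc (V.valuation (algebraMap K L (c i₀)))⁻¹ * V.valuation (algebraMap K L (c j)) ≤
        (V.valuation (algebraMap K L (c i₀)))⁻¹ * V.valuation (algebraMap K L (c i₀)) :=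
          mul_le_mul_right (hmax j (Finset.mem_univ j)) _
      _ = 1 := inv_mul_cancel₀ hv0
  choose a ha using ha
  have h1 : ∑ j, algebraMap A L (a j) * z ^ (j : ℕ) =
      (algebraMap K L (c i₀))⁻¹ * ∑ j, c j • z ^ (j : ℕ) := by
    rw [Finset.mul_sum]
    refine Finset.sum_congr rfl fun j _ => ?_
    rw [IsScalarTower.algebraMap_apply A K L, ha, Algebra.smul_def, map_mul, map_inv₀, mul_assoc]
  have h2 : V.valuation (∑ j, algebraMap A L (a j) * z ^ (j : ℕ)) < 1 := by
    rw [h1, map_mul, map_inv₀]
    calc (V.valuation (algebraMap K L (c i₀)))⁻¹ * V.valuation (∑ j, c j • z ^ (j : ℕ)) <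
        (V.valuation (algebraMap K L (c i₀)))⁻¹ * V.valuation (algebraMap K L (c i₀)) := by
          refine mul_lt_mul_of_pos_left hlt ?_
          rw [zero_lt_iff]
          exact inv_ne_zero hv0
      _ = 1 := inv_mul_cancel₀ hv0
  have h3 := hz.2 a h2 i₀
  have h4 : a i₀ = 1 := by
    apply IsFractionRing.injective A K
    rw [ha, inv_mul_cancel₀ hc0', map_one]
  rw [h4] at h3
  exact (Ideal.ne_top_iff_one _).1 (IsLocalRing.maximalIdeal.isMaximal A).ne_top h3

/-- Residually generated extensions. -/
theorem resGen [FiniteDimensional K L] {π : A} (hπ : maximalIdeal A = Ideal.span {π})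
    (n : ℕ) (hn : 0 < n) (hfin : Module.finrank K L ≤ n) (z : L)
    (hz : ∀ V : ValuationSubring L, Dominates A (algebraMap A L) V → Indep A V z n) :
    Module.finrank K L = n ∧
    (∀ V V' : ValuationSubring L, Dominates A (algebraMap A L) V →
      Dominates A (algebraMap A L) V' → V = V') ∧
    ∀ (V : ValuationSubring L), Dominates A (algebraMap A L) V →
      ∀ x : L, V.valuation x ≤ 1 → ∃ a : Fin n → A, x = ∑ i, algebraMap A L (a i) * z ^ (i : ℕ) := by
  obtain ⟨V₀, h₀⟩ := RamBasic.exists_dominates (algebraMap A L)
  have hli : LinearIndependent K (fun i : Fin n => z ^ (i : ℕ)) := by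
    rw [Fintype.linearIndependent_iff]
    intro g hg i
    have h1 := (hz V₀ h₀).le hπ h₀ g i
    rw [hg, map_zero, le_zero_iff, Valuation.zero_iff] at h1
    exact (map_eq_zero _).1 h1
  have hfin' : Module.finrank K L = n := by
    refine le_antisymm hfin ?_
    have := hli.fintype_card_le_finrank
    simpa using this
  have hne : Nonempty (Fin n) := ⟨⟨0, hn⟩⟩
  let b := basisOfLinearIndependentOfCardEqFinrank hli (by rw [hfin', Fintype.card_fin])
  have hb : ∀ i, b i = z ^ (i : ℕ) := fun i => by
    simp only [b, coe_basisOfLinearIndependentOfCardEqFinrank]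
  have hcoef : ∀ V : ValuationSubring L, Dominates A (algebraMap A L) V → ∀ x : L,
      V.valuation x ≤ 1 → ∃ a : Fin n → A, x = ∑ i, algebraMap A L (a i) * z ^ (i : ℕ) := by
    intro V h x hx
    have h2 : ∑ j, b.repr x j • z ^ (j : ℕ) = x := by
      conv_rhs => rw [← b.sum_repr x]
      exact Finset.sum_congr rfl fun j _ => by rw [hb]
    have h1 : ∀ i, ∃ a : A, algebraMap A K a = b.repr x i := by
      intro i
      refine mem_range_of_val_le_one h hπ ?_
      refine ((hz V h).le hπ h (fun i => b.repr x i) i).trans ?_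
      rw [h2]
      exact hx
    choose a ha using h1
    refine ⟨a, ?_⟩
    rw [← h2]
    refine Finset.sum_congr rfl fun i _ => ?_
    rw [← ha i, Algebra.smul_def, ← IsScalarTower.algebraMap_apply]
  have hle : ∀ V V' : ValuationSubring L, Dominates A (algebraMap A L) V →
      Dominates A (algebraMap A L) V' → V ≤ V' := by
    intro V V' h h' x hx
    obtain ⟨a, rfl⟩ := hcoef V h x ((V.valuation_le_one_iff x).2 hx)
    refine sum_mem fun i _ => ?_
    exact mul_mem (h'.1 _) (pow_mem ((V'.valuation_le_one_iff _).1 (hz V' h').1) _)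
  exact ⟨hfin', fun V V' h h' => le_antisymm (hle V V' h h') (hle V' V h' h), hcoef⟩

/-- Residually generated extensions are weakly unramified. -/
theorem resGen_weak {π : A} (hπ : maximalIdeal A = Ideal.span {π})
    (n : ℕ) (z : L) (V : ValuationSubring L) (h : Dominates A (algebraMap A L) V) (hz : Indep A V z n)
    (hcoef : ∀ x : L, V.valuation x ≤ 1 → ∃ a : Fin n → A, x = ∑ i, algebraMap A L (a i) * z ^ (i : ℕ)) :
    letI : Algebra A V := (RingHom.codRestrict (algebraMap A L) V h.1).toAlgebra
    IsWeaklyUnramified A V := by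
  letI : Algebra A V := (RingHom.codRestrict (algebraMap A L) V h.1).toAlgebra
  change (maximalIdeal A).map (algebraMap A V) = maximalIdeal V
  rw [hπ, Ideal.map_span, Set.image_singleton]
  apply le_antisymm
  · rw [Ideal.span_singleton_le_iff_mem, ValuationSubring.valuation_lt_one_iff]
    exact h.2 π (by rw [hπ]; exact Ideal.mem_span_singleton_self π)
  · intro x hx
    rw [ValuationSubring.valuation_lt_one_iff] at hx
    obtain ⟨a, ha⟩ := hcoef x hx.le
    have h1 := hz.2 a (by rw [← ha]; exact hx)
    have h2 : ∀ i, ∃ c, a i = π * c := by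
      intro i
      have := h1 i
      rw [hπ, Ideal.mem_span_singleton] at this
      exact this
    choose c hc using h2
    rw [Ideal.mem_span_singleton]
    have hzV : z ∈ V := (V.valuation_le_one_iff z).1 hz.1
    refine ⟨∑ i, algebraMap A V (c i) * (⟨z, hzV⟩ : V) ^ (i : ℕ), ?_⟩
    apply Subtype.ext
    rw [ha]
    push_cast
    rw [Finset.mul_sum]
    refine Finset.sum_congr rfl fun i _ => ?_
    rw [hc i, map_mul, mul_assoc]
    rfl

/-- the case of a purely inseparable residue extension of degree `p`. -/
theorem indep_of_pow {p : ℕ} (hp : p.Prime) (a : A)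
    (ha : ∀ r : A, residue A a ≠ residue A r ^ p) (z : L) (V : ValuationSubring L)
    (h : Dominates A (algebraMap A L) V)
    (hz : V.valuation (z ^ p - algebraMap A L a) < 1) : Indep A V z p := by
  have hz1 : V.valuation z ≤ 1 := by
    have h1 : V.valuation (z ^ p) ≤ 1 := by
      rw [show z ^ p = (z ^ p - algebraMap A L a) + algebraMap A L a by ring]
      exact (V.valuation.map_add _ _).trans (max_le hz.le (val_le_one h a))
    rw [map_pow] at h1
    exact (pow_le_one_iff hp.ne_zero).1 h1
  refine ⟨hz1, ?_⟩
  intro b hb i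
  have hzV : z ∈ V := (V.valuation_le_one_iff z).1 hz1
  letI : Algebra A V := (RingHom.codRestrict (algebraMap A L) V h.1).toAlgebra
  haveI : IsLocalHom (algebraMap A V) := RamBasic.Dominates.isLocalHom h
  set zb : ResidueField V := residue V ⟨z, hzV⟩ with hzb
  have hzbp : zb ^ p = algebraMap (ResidueField A) (ResidueField V) (residue A a) := by
    change zb ^ p = residue V (algebraMap A V a)
    rw [hzb, ← map_pow, ← sub_eq_zero, ← map_sub, residue_eq_zero_iff,
      ValuationSubring.valuation_lt_one_iff]
    exact hz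
  have hirr : Irreducible (Polynomial.X ^ p - Polynomial.C (residue A a)) := by
    refine X_pow_sub_C_irreducible_of_prime hp ?_
    intro r hr
    obtain ⟨r, rfl⟩ := residue_surjective r
    exact ha r hr.symm
  have hmin : minpoly (ResidueField A) zb = Polynomial.X ^ p - Polynomial.C (residue A a) := by
    refine (minpoly.eq_of_irreducible_of_monic hirr ?_ (Polynomial.monic_X_pow_sub_C _ hp.ne_zero)).symm
    rw [map_sub, map_pow, Polynomial.aeval_X, Polynomial.aeval_C, hzbp, sub_self]
  have hdeg : (minpoly (ResidueField A) zb).natDegree = p := by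
    rw [hmin, Polynomial.natDegree_X_pow_sub_C]
  have hli := linearIndependent_pow (K := ResidueField A) zb
  rw [hdeg] at hli
  rw [Fintype.linearIndependent_iff] at hli
  have h3 := hli (fun j => residue A (b j)) ?_ i
  · rwa [residue_eq_zero_iff] at h3
  · have h4 : residue V (∑ j, algebraMap A V (b j) * (⟨z, hzV⟩ : V) ^ (j : ℕ)) = 0 := by
      rw [residue_eq_zero_iff, ValuationSubring.valuation_lt_one_iff]
      push_cast
      exact hb
    rw [← h4, map_sum]
    refine Finset.sum_congr rfl fun j _ => ?_
    rw [map_mul, map_pow, Algebra.smul_def]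
    rfl

theorem insep {p : ℕ} (hp : p.Prime) [CharP (ResidueField A) p] [FiniteDimensional K L] {π : A}
    (hπ : maximalIdeal A = Ideal.span {π})
    (hfin : Module.finrank K L ≤ p) (a : A)
    (ha : ∀ r : A, residue A a ≠ residue A r ^ p) (z : L)
    (hz : ∀ V : ValuationSubring L, Dominates A (algebraMap A L) V →
      V.valuation (z ^ p - algebraMap A L a) < 1) :
    (∃ V : ValuationSubring L, Dominates A (algebraMap A L) V) ∧
      (∀ V V' : ValuationSubring L, Dominates A (algebraMap A L) V →
        Dominates A (algebraMap A L) V' → V = V') ∧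
      ∀ (V : ValuationSubring L) (h : Dominates A (algebraMap A L) V),
        letI : Algebra A V := (RingHom.codRestrict (algebraMap A L) V h.1).toAlgebra
        ∀ [IsLocalHom (algebraMap A V)],
          IsWeaklyUnramified A V ∧
            IsPurelyInseparable (ResidueField A) (ResidueField V) ∧
            Module.finrank (ResidueField A) (ResidueField V) = p := by
  have hind := fun V h => indep_of_pow hp a ha z V h (hz V h)
  obtain ⟨hn, huniq, hcoef⟩ := resGen hπ p hp.pos hfin z hind
  refine ⟨RamBasic.exists_dominates (algebraMap A L), huniq, ?_⟩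
  intro V h
  letI : Algebra A V := (RingHom.codRestrict (algebraMap A L) V h.1).toAlgebra
  intro hloc
  refine ⟨resGen_weak hπ p z V h (hind V h) (hcoef V h), ?_⟩
  have hzV : z ∈ V := (V.valuation_le_one_iff z).1 (hind V h).1
  set zb : ResidueField V := residue V ⟨z, hzV⟩ with hzb
  have hzbp : zb ^ p = algebraMap (ResidueField A) (ResidueField V) (residue A a) := by
    change zb ^ p = residue V (algebraMap A V a)
    rw [hzb, ← map_pow, ← sub_eq_zero, ← map_sub, residue_eq_zero_iff,
      ValuationSubring.valuation_lt_one_iff]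
    exact hz V h
  have hspan : ∀ y : ResidueField V, ∃ b : Fin p → ResidueField A,
      y = ∑ i, b i • zb ^ (i : ℕ) := by
    intro y
    obtain ⟨x, rfl⟩ := residue_surjective y
    obtain ⟨c, hc⟩ := hcoef V h x ((V.valuation_le_one_iff (x : L)).2 x.2)
    refine ⟨fun i => residue A (c i), ?_⟩
    have h1 : x = ∑ j, algebraMap A V (c j) * (⟨z, hzV⟩ : V) ^ (j : ℕ) := by
      apply Subtype.ext
      push_cast
      exact hc
    conv_lhs => rw [h1]
    rw [map_sum]
    refine Finset.sum_congr rfl fun j _ => ?_
    rw [map_mul, map_pow, Algebra.smul_def]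
    rfl
  have hirr : Irreducible (Polynomial.X ^ p - Polynomial.C (residue A a)) := by
    refine X_pow_sub_C_irreducible_of_prime hp ?_
    intro r hr
    obtain ⟨r, rfl⟩ := residue_surjective r
    exact ha r hr.symm
  have hmin : minpoly (ResidueField A) zb = Polynomial.X ^ p - Polynomial.C (residue A a) := by
    refine (minpoly.eq_of_irreducible_of_monic hirr ?_ (Polynomial.monic_X_pow_sub_C _ hp.ne_zero)).symm
    rw [map_sub, map_pow, Polynomial.aeval_X, Polynomial.aeval_C, hzbp, sub_self]
  have hdeg : (minpoly (ResidueField A) zb).natDegree = p := by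
    rw [hmin, Polynomial.natDegree_X_pow_sub_C]
  have hli := linearIndependent_pow (K := ResidueField A) zb
  rw [hdeg] at hli
  have htop : ⊤ ≤ Submodule.span (ResidueField A) (Set.range fun i : Fin p => zb ^ (i : ℕ)) := by
    intro y _
    obtain ⟨b, rfl⟩ := hspan y
    exact sum_mem fun i _ => Submodule.smul_mem _ _ (Submodule.subset_span ⟨i, rfl⟩)
  have hcard : Module.finrank (ResidueField A) (ResidueField V) = p := by
    rw [Module.finrank_eq_card_basis (Module.Basis.mk hli htop), Fintype.card_fin]
  refine ⟨?_, hcard⟩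
  haveI : Fact p.Prime := ⟨hp⟩
  haveI : CharP (ResidueField V) p := charP_of_injective_algebraMap
    (algebraMap (ResidueField A) (ResidueField V)).injective p
  haveI : ExpChar (ResidueField A) p := .prime hp
  haveI : ExpChar (ResidueField V) p := .prime hp
  rw [isPurelyInseparable_iff_pow_mem (ResidueField A) p]
  intro y
  refine ⟨1, ?_⟩
  obtain ⟨b, rfl⟩ := hspan y
  rw [pow_one, sum_pow_char]
  refine sum_mem fun i _ => ?_
  rw [Algebra.smul_def, mul_pow, ← pow_mul, mul_comm (i : ℕ) p, pow_mul, hzbp, ← map_pow, ← map_pow,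
    ← map_mul]
  exact ⟨_, rfl⟩

end main

end K363.RamCases
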