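import Groth.Agent.Etalg.RamBasic
import Groth.Agent.Etalg.RamDVR
import Groth.Agent.Etalg.RamDVR2
import Mathlib.FieldTheory.PurelyInseparable.Basic
import Mathlib.FieldTheory.KummerPolynomial
import Mathlib.RingTheory.PowerBasis

/-!
# Totally ramified / residually inseparable extensions of a DVR, in terms of one element

Let `A` be a DVR with fraction field `K`, uniformizer `π` and `L/K` finite.

* `totRam`: if some `ϖ ∈ L` satisfies `v(ϖ)^n = v(π)` for all valuation subrings `V` of `L` dominating `A`,
  and `[L : K] ≤ n`, then `[L : K] = n` and `L` is totally ramified.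
* `resGen`: if some `z ∈ L` has, in every `V` dominating `A`, a residue class whose first `n` powers are
  linearly independent over the residue field of `A`, and `[L : K] ≤ n`, then `V` is unique, weakly unramified
  and the residue field is spanned by the powers of `z`.
-/

set_option autoImplicit false
universe u

open IsLocalRing EtRam Groth.Agent.Etalg

namespace K363.RamCases

/-- the value of a sum of elements with pairwise distinct values modulo `K` bounds each value. -/
theorem le_valuation_sum {K L Γ₀ ι : Type*} [Field K] [Field L] [Algebra K L]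
    [LinearOrderedCommGroupWithZero Γ₀] [Fintype ι] (v : Valuation L Γ₀) (x : ι → L)
    (h : ∀ i j, i ≠ j → ∀ c : K, v (x i) ≠ v (algebraMap K L c * x j)) (g : ι → K) (i : ι) :
    v (g i • x i) ≤ v (∑ j, g j • x j) := by
  classical
  obtain ⟨i₀, -, hmax⟩ := Finset.exists_max_image Finset.univ (fun i => v (g i • x i))
    ⟨i, Finset.mem_univ i⟩
  by_cases h0 : v (g i₀ • x i₀) = 0
  · have := hmax i (Finset.mem_univ i)
    rw [h0] at this
    exact this.trans zero_le
  have hlt : v (∑ j ∈ Finset.univ.erase i₀, g j • x j) < v (g i₀ • x i₀) := by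
    refine Valuation.map_sum_lt v h0 ?_
    intro j hj
    rw [Finset.mem_erase] at hj
    refine lt_of_le_of_ne (hmax j (Finset.mem_univ j)) ?_
    intro heq
    have hgj : g j ≠ 0 := by
      intro hg
      rw [hg, zero_smul, map_zero] at heq
      exact h0 heq.symm
    refine h j i₀ hj.1 ((g j)⁻¹ * g i₀) ?_
    rw [Algebra.smul_def, Algebra.smul_def, map_mul, map_mul] at heq
    rw [map_mul, map_mul, map_mul, map_inv₀, map_inv₀, mul_assoc, ← heq, inv_mul_cancel_left₀]
    rw [Valuation.ne_zero_iff]
    simpa using hgj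
  rw [← Finset.add_sum_erase _ _ (Finset.mem_univ i₀), Valuation.map_add_eq_of_lt_left v hlt]
  exact hmax i (Finset.mem_univ i)

section

variable {A K L : Type u} [CommRing A] [IsDomain A] [IsDiscreteValuationRing A]
  [Field K] [Algebra A K] [IsFractionRing A K] [Field L] [Algebra K L] [Algebra A L]
  [IsScalarTower A K L]

theorem exists_zpow {π : A} (hπ : maximalIdeal A = Ideal.span {π}) {c : K} (hc : c ≠ 0) :
    ∃ (m : ℤ) (u : Aˣ), c = algebraMap A K u * algebraMap A K π ^ m := by
  have hirr : Irreducible π := (IsDiscreteValuationRing.irreducible_iff_uniformizer π).2 hπ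
  have hπ0 : algebraMap A K π ≠ 0 := by
    rw [Ne, map_eq_zero_iff _ (IsFractionRing.injective A K)]; exact hirr.ne_zero
  obtain ⟨a, b, hb, rfl⟩ := IsFractionRing.div_surjective (A := A) c
  have hb0 : b ≠ 0 := nonZeroDivisors.ne_zero hb
  have ha0 : a ≠ 0 := by rintro rfl; simp at hc
  obtain ⟨n, u, rfl⟩ := IsDiscreteValuationRing.eq_unit_mul_pow_irreducible ha0 hirr
  obtain ⟨m, v, rfl⟩ := IsDiscreteValuationRing.eq_unit_mul_pow_irreducible hb0 hirr
  refine ⟨n - m, u * v⁻¹, ?_⟩
  have hv : algebraMap A K v ≠ 0 := (v.isUnit.map (algebraMap A K)).ne_zero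
  have hvi : algebraMap A K ((v⁻¹ : Aˣ) : A) = (algebraMap A K v)⁻¹ := by
    refine eq_inv_of_mul_eq_one_left ?_
    rw [← map_mul, Units.inv_mul, map_one]
  rw [zpow_sub₀ hπ0, zpow_natCast, zpow_natCast, Units.val_mul, map_mul, map_mul, map_mul, map_pow,
    map_pow, hvi]
  field_simp

variable {V : ValuationSubring L} (h : Dominates A (algebraMap A L) V)
include h

theorem val_le_one (a : A) : V.valuation (algebraMap A L a) ≤ 1 := RamDVR.valuation_le_one h a

theorem val_unit (u : Aˣ) : V.valuation (algebraMap A L u) = 1 :=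
  RamDVR.valuation_eq_one_of_isUnit h u.isUnit

theorem val_pi_lt {π : A} (hπ : maximalIdeal A = Ideal.span {π}) :
    V.valuation (algebraMap A L π) < 1 :=
  h.2 π (by rw [hπ]; exact Ideal.mem_span_singleton_self π)

variable (K) in
include K in
theorem val_pi_pos {π : A} (hπ : maximalIdeal A = Ideal.span {π}) :
    0 < V.valuation (algebraMap A L π) := by
  have hirr : Irreducible π := (IsDiscreteValuationRing.irreducible_iff_uniformizer π).2 hπ
  rw [zero_lt_iff, Valuation.ne_zero_iff, IsScalarTower.algebraMap_apply A K L, Ne, map_eq_zero,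
    map_eq_zero_iff _ (IsFractionRing.injective A K)]
  exact hirr.ne_zero

omit [IsFractionRing A K] in
theorem val_zpow {π : A} (m : ℤ) (u : Aˣ) :
    V.valuation (algebraMap K L (algebraMap A K u * algebraMap A K π ^ m)) =
      V.valuation (algebraMap A L π) ^ m := by
  rw [map_mul, map_mul, map_zpow₀, map_zpow₀, ← IsScalarTower.algebraMap_apply,
    ← IsScalarTower.algebraMap_apply, val_unit h, one_mul]

theorem mem_range_of_val_le_one {π : A} (hπ : maximalIdeal A = Ideal.span {π}) {c : K}
    (hc : V.valuation (algebraMap K L c) ≤ 1) : ∃ a : A, algebraMap A K a = c := by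
  rcases eq_or_ne c 0 with rfl | hc0
  · exact ⟨0, map_zero _⟩
  obtain ⟨m, u, rfl⟩ := exists_zpow hπ hc0
  rw [val_zpow h] at hc
  have hm : 0 ≤ m := by
    by_contra hlt
    push Not at hlt
    have := one_lt_zpow_of_neg₀ (val_pi_pos K h hπ) (val_pi_lt h hπ) hlt
    exact absurd hc (not_le.2 this)
  obtain ⟨k, rfl⟩ := Int.eq_ofNat_of_zero_le hm
  exact ⟨u * π ^ k, by rw [map_mul, map_pow, zpow_natCast]⟩

end

section main

variable {A K L : Type u} [CommRing A] [IsDomain A] [IsDiscreteValuationRing A]
  [Field K] [Algebra A K] [IsFractionRing A K] [Field L] [Algebra K L] [Algebra A L]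
  [IsScalarTower A K L]

/-- Totally ramified extensions from a uniformizer. -/
theorem totRam [FiniteDimensional K L] {π : A} (hπ : maximalIdeal A = Ideal.span {π})
    (n : ℕ) (hn : 0 < n) (hfin : Module.finrank K L ≤ n) (ϖ : L)
    (hϖ : ∀ V : ValuationSubring L, Dominates A (algebraMap A L) V →
      V.valuation ϖ ^ n = V.valuation (algebraMap A L π)) :
    IsTotallyRamified A (algebraMap A L) ∧ Module.finrank K L = n := by
  obtain ⟨V₀, h₀⟩ := RamBasic.exists_dominates (algebraMap A L)
  -- distinctness of the values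
  have hdist : ∀ V : ValuationSubring L, Dominates A (algebraMap A L) V →
      ∀ i j : Fin n, i ≠ j → ∀ c : K,
        V.valuation (ϖ ^ (i : ℕ)) ≠ V.valuation (algebraMap K L c * ϖ ^ (j : ℕ)) := by
    intro V h i j hij c heq
    have hq0 := val_pi_pos K h hπ
    have hq1 := val_pi_lt h hπ
    have hϖ0 : V.valuation ϖ ≠ 0 := by
      intro h0
      have := hϖ V h
      rw [h0, zero_pow hn.ne'] at this
      exact hq0.ne this
    have hc : c ≠ 0 := by
      rintro rfl
      rw [map_zero, zero_mul, map_zero, map_pow] at heq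
      exact pow_ne_zero _ hϖ0 heq
    obtain ⟨m, u, rfl⟩ := exists_zpow hπ hc
    rw [map_mul, val_zpow h, map_pow, map_pow] at heq
    have h2 := congrArg (fun t => t ^ n) heq
    simp only [mul_pow] at h2
    rw [← pow_mul, ← pow_mul, mul_comm (i : ℕ) n, mul_comm (j : ℕ) n, pow_mul, pow_mul, hϖ V h,
      ← zpow_natCast, ← zpow_natCast, ← zpow_natCast, ← zpow_mul, ← zpow_add₀ hq0.ne'] at h2
    have h3 := (zpow_right_strictAnti₀ hq0 hq1).injective h2
    have hi := i.2
    have hj := j.2
    have h4 : (i : ℤ) - j = m * n := by omega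
    have h5 : (i : ℕ) ≠ j := fun h => hij (Fin.ext h)
    rcases lt_trichotomy m 0 with hm | hm | hm
    · have : m * (n : ℤ) ≤ -(n : ℤ) := by nlinarith
      omega
    · rw [hm, zero_mul] at h4
      omega
    · have : (n : ℤ) ≤ m * n := by nlinarith
      omega
  have hϖ0 : ϖ ≠ 0 := by
    rintro rfl
    have := hϖ V₀ h₀
    rw [map_zero, zero_pow hn.ne'] at this
    exact (val_pi_pos K h₀ hπ).ne this
  have hli : LinearIndependent K (fun i : Fin n => ϖ ^ (i : ℕ)) :=
    RamDVR2.linearIndependent_of_valuation V₀.valuation _ (fun i => pow_ne_zero _ hϖ0) (hdist V₀ h₀)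
  have hfin' : Module.finrank K L = n := by
    refine le_antisymm hfin ?_
    have := hli.fintype_card_le_finrank
    simpa using this
  have hne : Nonempty (Fin n) := ⟨⟨0, hn⟩⟩
  let b := basisOfLinearIndependentOfCardEqFinrank hli (by rw [hfin', Fintype.card_fin])
  have hb : ∀ i, b i = ϖ ^ (i : ℕ) := fun i => by
    simp only [b, coe_basisOfLinearIndependentOfCardEqFinrank]
  -- coefficients of elements of `V`
  have hcoef : ∀ V : ValuationSubring L, Dominates A (algebraMap A L) V → ∀ x : L,
      V.valuation x ≤ 1 → ∀ i, ∃ a : A, algebraMap A K a = b.repr x i ∧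
        V.valuation (algebraMap A L a * ϖ ^ (i : ℕ)) ≤ 1 := by
    intro V h x hx i
    have hq0 := val_pi_pos K h hπ
    have hq1 := val_pi_lt h hπ
    have h1 := le_valuation_sum V.valuation (fun i : Fin n => ϖ ^ (i : ℕ)) (hdist V h)
      (fun i => b.repr x i) i
    have h2 : ∑ j, b.repr x j • ϖ ^ (j : ℕ) = x := by
      conv_rhs => rw [← b.sum_repr x]
      exact Finset.sum_congr rfl fun j _ => by rw [hb]
    rw [h2] at h1
    have h3 := h1.trans hx
    rcases eq_or_ne (b.repr x i) 0 with h0 | h0
    · exact ⟨0, by rw [h0, map_zero], by rw [map_zero, zero_mul, map_zero]; exact zero_le⟩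
    · obtain ⟨m, u, hmu⟩ := exists_zpow hπ h0
      have h4 : V.valuation (b.repr x i • ϖ ^ (i : ℕ)) ^ n =
          V.valuation (algebraMap A L π) ^ (m * n + i) := by
        rw [hmu, Algebra.smul_def, map_mul, val_zpow h, mul_pow, map_pow, ← pow_mul,
          mul_comm (i : ℕ) n, pow_mul, hϖ V h, zpow_add₀ hq0.ne', zpow_mul, zpow_natCast,
          zpow_natCast]
      have h5 : 0 ≤ m := by
        by_contra hlt
        push Not at hlt
        have hi := i.2
        have h6 : m * (n : ℤ) + i < 0 := by nlinarith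
        have h7 := one_lt_zpow_of_neg₀ hq0 hq1 h6
        rw [← h4] at h7
        exact absurd (pow_le_one₀ zero_le h3) (not_le.2 h7)
      obtain ⟨k, rfl⟩ := Int.eq_ofNat_of_zero_le h5
      refine ⟨u * π ^ k, by rw [hmu, map_mul, map_pow, zpow_natCast], ?_⟩
      rw [hmu, Algebra.smul_def, map_mul (algebraMap K L), map_zpow₀, zpow_natCast,
        ← IsScalarTower.algebraMap_apply, ← IsScalarTower.algebraMap_apply] at h3
      rwa [map_mul (algebraMap A L), map_pow]
  have hϖval : ∀ V : ValuationSubring L, Dominates A (algebraMap A L) V → V.valuation ϖ < 1 := by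
    intro V h
    by_contra hge
    push Not at hge
    have h1 := one_le_pow₀ hge (n := n)
    rw [hϖ V h] at h1
    exact absurd (val_pi_lt h hπ) (not_lt.2 h1)
  -- uniqueness
  have hle : ∀ V V' : ValuationSubring L, Dominates A (algebraMap A L) V →
      Dominates A (algebraMap A L) V' → V ≤ V' := by
    intro V V' h h' x hx
    choose a ha using hcoef V h x ((V.valuation_le_one_iff x).2 hx)
    rw [← b.sum_repr x]
    refine sum_mem fun i _ => ?_
    rw [← (ha i).1, hb, Algebra.smul_def, ← IsScalarTower.algebraMap_apply]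
    refine mul_mem (h'.1 _) (pow_mem ?_ _)
    exact (V'.valuation_le_one_iff _).1 (hϖval V' h').le
  refine ⟨⟨⟨V₀, h₀⟩, fun V V' h h' => le_antisymm (hle V V' h h') (hle V' V h' h), ?_⟩, hfin'⟩
  intro V h y
  obtain ⟨⟨x, hxV⟩, rfl⟩ := IsLocalRing.residue_surjective y
  choose a ha using hcoef V h x ((V.valuation_le_one_iff x).2 hxV)
  refine ⟨a ⟨0, hn⟩, ?_⟩
  simp only
  rw [← sub_eq_zero, ← map_sub, IsLocalRing.residue_eq_zero_iff,
    ValuationSubring.valuation_lt_one_iff]
  change V.valuation (algebraMap A L (a ⟨0, hn⟩) - x) < 1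
  have h1 : x = ∑ i, algebraMap A L (a i) * ϖ ^ (i : ℕ) := by
    conv_lhs => rw [← b.sum_repr x]
    refine Finset.sum_congr rfl fun i _ => ?_
    rw [← (ha i).1, hb, Algebra.smul_def, ← IsScalarTower.algebraMap_apply]
  rw [h1, ← Finset.add_sum_erase _ _ (Finset.mem_univ (⟨0, hn⟩ : Fin n))]
  simp only [pow_zero, mul_one]
  rw [sub_add_cancel_left, Valuation.map_neg]
  refine Valuation.map_sum_lt V.valuation one_ne_zero ?_
  intro i hi
  rw [Finset.mem_erase] at hi
  rw [map_mul, map_pow]
  have hi0 : (i : ℕ) ≠ 0 := fun h0 => hi.1 (Fin.ext h0)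
  calc V.valuation (algebraMap A L (a i)) * V.valuation ϖ ^ (i : ℕ) ≤ 1 * V.valuation ϖ ^ (i : ℕ) :=
        mul_le_mul_left (val_le_one h _) _
    _ = V.valuation ϖ ^ (i : ℕ) := one_mul _
    _ < 1 := pow_lt_one₀ zero_le (hϖval V h) hi0

end main

end K363.RamCases
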