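import Groth.Agent.Etalg.RamDict
import Groth.Agent.EtAlg.K363.RamCases
import Mathlib.RingTheory.DedekindDomain.Different
import Mathlib.RingTheory.Unramified.LocalRing

/-!
# An extension generated by a root of a polynomial with unit derivative is unramified

`unrExt`: `A` a DVR with fraction field `K`, `L/K` finite separable generated by a root `z` of a monic polynomial
`F` over `A`, such that `F'(z)` has value `1` in every valuation subring of `L` dominating `A`.  Then `L` is
unramified with respect to `A`.
-/

set_option autoImplicit false
universe u

open IsLocalRing EtRam Groth.Agent.Etalg Polynomial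

namespace K363.RamCases

section aux

attribute [local instance] FractionRing.liftAlgebra FractionRing.isScalarTower_liftAlgebra

theorem isSeparable_fractionRing (A K L B : Type u) [CommRing A]
    [IsDomain A] [Field K] [Algebra A K] [IsFractionRing A K]
    [Field L] [Algebra K L] [Algebra A L] [IsScalarTower A K L]
    [CommRing B] [IsDomain B] [Algebra A B] [Algebra B L] [IsScalarTower A B L]
    [IsFractionRing B L] [Module.IsTorsionFree A B] [Algebra.IsSeparable K L] :
    Algebra.IsSeparable (FractionRing A) (FractionRing B) := by
  have H : RingHom.comp (algebraMap (FractionRing A) (FractionRing B))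
      ↑(FractionRing.algEquiv A K).symm.toRingEquiv =
        RingHom.comp ↑(FractionRing.algEquiv B L).symm.toRingEquiv (algebraMap K L) := by
    apply IsLocalization.ringHom_ext (nonZeroDivisors A)
    ext
    simp only [RingHom.coe_comp, RingHom.coe_coe,
      AlgEquiv.coe_ringEquiv, Function.comp_apply, AlgEquiv.commutes,
      ← IsScalarTower.algebraMap_apply]
    rw [IsScalarTower.algebraMap_apply A B L, AlgEquiv.commutes, ← IsScalarTower.algebraMap_apply]
  exact Algebra.IsSeparable.of_equiv_equiv _ _ H

theorem isUnramifiedAt_of_deriv (A K L B : Type u) [CommRing A]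
    [IsDedekindDomain A] [Field K] [Algebra A K] [IsFractionRing A K]
    [Field L] [Algebra K L] [Algebra A L] [IsScalarTower A K L]
    [CommRing B] [IsDedekindDomain B] [Algebra A B] [Algebra B L] [IsScalarTower A B L]
    [IsIntegralClosure B A L] [FiniteDimensional K L]
    [IsFractionRing B L] [Module.IsTorsionFree A B] [Algebra.IsSeparable K L] [Module.Finite A B]
    (F : A[X]) (hF : F.Monic) (b : B) (hb : aeval b F = 0)
    (hadj : Algebra.adjoin K {algebraMap B L b} = ⊤) (P : Ideal B) [hP : P.IsPrime]
    (hd : aeval b F.derivative ∉ P) :
    Algebra.IsUnramifiedAt A P := by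
  have hsepFr : Algebra.IsSeparable (FractionRing A) (FractionRing B) :=
    isSeparable_fractionRing A K L B
  rw [← not_dvd_differentIdeal_iff, Ideal.dvd_iff_le]
  intro hle
  have h3 := hle (aeval_derivative_mem_differentIdeal A K L b hadj)
  have hbint : IsIntegral A b := ⟨F, hF, hb⟩
  obtain ⟨q, hq⟩ : minpoly A b ∣ F := minpoly.isIntegrallyClosed_dvd hbint hb
  apply hd
  have h5 := congrArg (fun g => aeval b (derivative g)) hq
  simp only [derivative_mul, map_add, map_mul, minpoly.aeval, zero_mul, add_zero] at h5
  rw [h5]
  exact P.mul_mem_right _ h3

end aux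

/-- An extension generated by a root of a polynomial with unit derivative is unramified. -/
theorem unrExt {A K L : Type u} [CommRing A] [IsDomain A] [IsDiscreteValuationRing A]
    [Field K] [Algebra A K] [IsFractionRing A K] [Field L] [Algebra K L] [Algebra A L]
    [IsScalarTower A K L] [FiniteDimensional K L] [Algebra.IsSeparable K L]
    (F : A[X]) (hF : F.Monic) (z : L) (hz : aeval z F = 0) (hadj : Algebra.adjoin K {z} = ⊤)
    (hd : ∀ V : ValuationSubring L, Dominates A (algebraMap A L) V →
      1 ≤ V.valuation (aeval z F.derivative)) :
    IsUnramifiedExt A (algebraMap A L) := by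
  intro V h
  let _ : Algebra A V := (RingHom.codRestrict (algebraMap A L) V h.1).toAlgebra
  intro hloc
  let C := integralClosure A L
  have hfin : Module.Finite A C := IsIntegralClosure.finite A K L C
  have hD : IsDedekindDomain C := integralClosure.isDedekindDomain A K L
  have hfrac : IsFractionRing C L := IsIntegralClosure.isFractionRing_of_finite_extension A K L C
  have hinjL : Function.Injective (algebraMap A L) := by
    rw [IsScalarTower.algebraMap_eq A K L]
    exact (algebraMap K L).injective.comp (IsFractionRing.injective A K)
  have hinj : Function.Injective (algebraMap A C) := by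
    intro x y hxy
    apply hinjL
    rw [IsScalarTower.algebraMap_apply A C L, hxy, ← IsScalarTower.algebraMap_apply A C L]
  have hfs : FaithfulSMul A C := (faithfulSMul_iff_algebraMap_injective A C).2 hinj
  have htf : Module.IsTorsionFree A C := inferInstance
  have hzint : IsIntegral A z := ⟨F, hF, hz⟩
  let b : C := ⟨z, hzint⟩
  have hbz : algebraMap C L b = z := rfl
  have hb : aeval b F = 0 := by
    apply IsFractionRing.injective C L
    rw [← aeval_algebraMap_apply, hbz, hz, map_zero]
  have hP : (RamDict.center C h.1).IsPrime := inferInstance
  have hunr : Algebra.IsUnramifiedAt A (RamDict.center C h.1) := by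
    refine isUnramifiedAt_of_deriv A K L C F hF b hb (by rw [hbz]; exact hadj) _ ?_
    rw [RamDict.mem_center_iff, ← aeval_algebraMap_apply, hbz]
    exact not_lt.2 (hd V h)
  let _ : Algebra C V := (RamDict.toV C h.1).toAlgebra
  have htow : IsScalarTower A C V := IsScalarTower.of_algebraMap_eq fun a ↦
    Subtype.ext (IsScalarTower.algebraMap_apply A C L a)
  have hlocz : IsLocalization.AtPrime V (RamDict.center C h.1) :=
    RamDict.isLocalization_atPrime C hinjL h
  have hunrV : Algebra.FormallyUnramified A V := by
    have e : Localization.AtPrime (RamDict.center C h.1) ≃ₐ[C] V :=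
      IsLocalization.algEquiv (RamDict.center C h.1).primeCompl _ _
    have := hunr
    exact Algebra.FormallyUnramified.of_equiv (e.restrictScalars A)
  have hessC : Algebra.EssFiniteType C V :=
    Algebra.EssFiniteType.of_isLocalization V (RamDict.center C h.1).primeCompl
  have hess : Algebra.EssFiniteType A V := Algebra.EssFiniteType.comp A C V
  exact (Algebra.FormallyUnramified.iff_map_maximalIdeal_eq.1 hunrV).symm

end K363.RamCases
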