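import Groth.Agent.EtAlg.K363.KumMain

/-!
# Artin-Schreier extensions: degree and Galois property
-/

set_option autoImplicit false
universe u

open Polynomial

namespace K363.RamCases

variable {K L : Type u} [Field K] [Field L] [Algebra K L]

theorem as_shift {p : ℕ} [hp : Fact p.Prime] [CharP K p] {z : K} (i : ℕ) :
    (z + i) ^ p - (z + i) = z ^ p - z := by
  rw [add_pow_char, ← Nat.cast_pow]
  have h1 : ((i ^ p : ℕ) : K) = i := by
    have h2 : ((i ^ p : ℕ) : ZMod p) = i := by
      rw [Nat.cast_pow, ZMod.pow_card]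
    have h3 := congrArg (ZMod.castHom (dvd_refl p) K) h2
    rw [map_natCast, map_natCast] at h3
    exact h3
  rw [h1]; ring

theorem prod_zmod (p : ℕ) [hp : Fact p.Prime] :
    ∏ i : ZMod p, (X - C i) = (X ^ p - X : (ZMod p)[X]) := by
  have h1 : (X ^ p - X : (ZMod p)[X]).natDegree = p :=
    FiniteField.X_pow_card_sub_X_natDegree_eq _ hp.out.one_lt
  have h2 : (X ^ p - X : (ZMod p)[X]).roots = Finset.univ.val := by
    have := FiniteField.roots_X_pow_card_sub_X (ZMod p)
    rwa [ZMod.card] at this
  have h3 : (X ^ p - X : (ZMod p)[X]).Monic :=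
    monic_X_pow_sub (by rw [degree_X]; exact_mod_cast hp.out.one_lt)
  have h4 := prod_multiset_X_sub_C_of_monic_of_roots_card_eq h3
    (by rw [h2, h1]; exact (Finset.card_univ (α := ZMod p)).trans (ZMod.card p))
  rw [h2] at h4
  exact h4

/-- all roots of `X ^ p - X - ξ` are `z + i`. -/
theorem as_roots {p : ℕ} [hp : Fact p.Prime] [CharP K p] {z r ξ : K} (hz : z ^ p - z = ξ)
    (hr : r ^ p - r = ξ) : ∃ i : ℕ, r = z + i := by
  have h1 : (r - z) ^ p - (r - z) = 0 := by
    rw [sub_pow_char]
    linear_combination hr - hz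
  have h2 : (X ^ p - X : K[X]) = ∏ i : ZMod p, (X - C (ZMod.castHom (dvd_refl p) K i)) := by
    have h3 := prod_zmod p
    have h4 := congrArg (Polynomial.map (ZMod.castHom (dvd_refl p) K)) h3
    rw [Polynomial.map_prod, Polynomial.map_sub, Polynomial.map_pow, map_X] at h4
    rw [← h4]
    refine Finset.prod_congr rfl fun i _ => ?_
    rw [Polynomial.map_sub, map_X, map_C]
  have h5 := congrArg (eval (r - z)) h2
  rw [eval_sub, eval_pow, eval_X, h1, eval_prod] at h5
  obtain ⟨i, -, hi⟩ := Finset.prod_eq_zero_iff.1 h5.symm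
  rw [eval_sub, eval_X, eval_C, sub_eq_zero] at hi
  refine ⟨i.val, ?_⟩
  have h6 : (ZMod.castHom (dvd_refl p) K) i = (i.val : K) := by
    rw [← map_natCast (ZMod.castHom (dvd_refl p) K), ZMod.natCast_zmod_val]
  rw [← h6, ← hi]; ring

/-- degree and Galois property of an Artin-Schreier extension -/
theorem as_degree {p : ℕ} (hp : p.Prime) [CharP K p]
    (z : L) (ξ : K) (hz : z ^ p - z = algebraMap K L ξ)
    (hgen : IntermediateField.adjoin K {z} = ⊤) :
    FiniteDimensional K L ∧ IsGalois K L ∧ (Module.finrank K L = 1 ∨ Module.finrank K L = p) := by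
  haveI : Fact p.Prime := ⟨hp⟩
  haveI : CharP L p := charP_of_injective_algebraMap (algebraMap K L).injective p
  have hmon : (X ^ p - X - C ξ : K[X]).Monic := by
    rw [sub_sub]
    refine monic_X_pow_sub ?_
    refine lt_of_le_of_lt (degree_add_le _ _) (max_lt ?_ ?_)
    · refine lt_of_le_of_lt degree_X_le ?_
      exact_mod_cast hp.one_lt
    · refine lt_of_le_of_lt degree_C_le ?_
      exact_mod_cast hp.pos
  have hroot : aeval z (X ^ p - X - C ξ : K[X]) = 0 := by
    rw [map_sub, map_sub, map_pow, aeval_X, aeval_C, hz, sub_self]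
  have hzint : IsIntegral K z := ⟨_, hmon, hroot⟩
  have hfd : FiniteDimensional K L := by
    have h1 : FiniteDimensional K (IntermediateField.adjoin K {z}) :=
      IntermediateField.adjoin.finiteDimensional hzint
    rw [hgen] at h1
    exact Module.Finite.equiv (IntermediateField.topEquiv (F := K) (E := L)).toLinearEquiv
  have hadj : Algebra.adjoin K {z} = ⊤ := algAdjoin_eq_top hgen
  have hprod : (X ^ p - X - C ξ : K[X]).map (algebraMap K L) =
      ∏ i : ZMod p, (X - C (z + ZMod.castHom (dvd_refl p) L i)) := by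
    have h3 := prod_zmod p
    have h4 := congrArg (fun f => (Polynomial.map (ZMod.castHom (dvd_refl p) L) f).comp (X - C z)) h3
    simp only [Polynomial.map_prod, Polynomial.map_sub, Polynomial.map_pow, map_X, map_C, prod_comp,
      sub_comp, X_comp, pow_comp, C_comp] at h4
    rw [Polynomial.map_sub, Polynomial.map_sub, Polynomial.map_pow, map_X, map_C]
    have h5 : (X ^ p - X - C (algebraMap K L ξ) : L[X]) = (X - C z) ^ p - (X - C z) := by
      rw [sub_pow_char, ← hz, C_sub, C_pow]; ring
    rw [h5, ← h4]
    refine Finset.prod_congr rfl fun i _ => ?_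
    rw [C_add]; ring
  have hspl : ((X ^ p - X - C ξ : K[X]).map (algebraMap K L)).Splits := by
    rw [hprod]
    exact Splits.prod fun i _ => Splits.X_sub_C _
  have hsepf : (X ^ p - X - C ξ : K[X]).Separable := by
    rw [separable_def, derivative_sub, derivative_sub, derivative_X_pow, derivative_X, derivative_C,
      CharP.cast_eq_zero, C_0, zero_mul, zero_sub, sub_zero]
    exact isCoprime_one_right.neg_right
  have hsf : (X ^ p - X - C ξ : K[X]).IsSplittingField K L := by
    refine ⟨hspl, ?_⟩
    rw [eq_top_iff, ← hadj]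
    refine Algebra.adjoin_mono ?_
    rw [Set.singleton_subset_iff, mem_rootSet']
    exact ⟨(hmon.map _).ne_zero, hroot⟩
  have hgal : IsGalois K L := IsGalois.of_separable_splitting_field hsepf
  refine ⟨hfd, hgal, ?_⟩
  have hdeg : (minpoly K z).natDegree = Module.finrank K L := by
    rw [← IntermediateField.adjoin.finrank hzint, hgen, IntermediateField.finrank_top']
  have hle : (minpoly K z).natDegree ≤ p := by
    have h1 := natDegree_le_of_dvd (minpoly.dvd K z hroot) hmon.ne_zero
    have h2 : (X ^ p - X - C ξ : K[X]).natDegree = p := by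
      rw [natDegree_sub_C]
      exact FiniteField.X_pow_card_sub_X_natDegree_eq K hp.one_lt
    rwa [h2] at h1
  rw [← hdeg]
  by_contra hcon
  push Not at hcon
  have hlt : (minpoly K z).natDegree < p := lt_of_le_of_ne hle hcon.2
  have hpos : 0 < (minpoly K z).natDegree := minpoly.natDegree_pos hzint
  have hgspl : ((minpoly K z).map (algebraMap K L)).Splits :=
    Splits.of_dvd hspl (hmon.map _).ne_zero (Polynomial.map_dvd _ (minpoly.dvd K z hroot))
  have h1 := hgspl.nextCoeff_eq_neg_sum_roots_of_monic ((minpoly.monic hzint).map _)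
  have hcard : ((minpoly K z).map (algebraMap K L)).roots.card = (minpoly K z).natDegree := by
    rw [← hgspl.natDegree_eq_card_roots, natDegree_map]
  have hmem : ∀ r ∈ ((minpoly K z).map (algebraMap K L)).roots, r - z ∈ (algebraMap K L).range := by
    intro r hr
    have hr' : aeval r (X ^ p - X - C ξ : K[X]) = 0 := by
      obtain ⟨q, hq⟩ := minpoly.dvd K z hroot
      rw [hq, map_mul]
      rw [mem_roots', IsRoot.def, eval_map, ← aeval_def] at hr
      rw [hr.2, zero_mul]
    rw [map_sub, map_sub, map_pow, aeval_X, aeval_C, sub_eq_zero] at hr'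
    obtain ⟨i, rfl⟩ := as_roots hz hr'
    exact ⟨i, by rw [map_natCast]; ring⟩
  have hsum : (((minpoly K z).map (algebraMap K L)).roots.map (fun r => r - z)).sum ∈
      (algebraMap K L).range := by
    refine multiset_sum_mem _ ?_
    intro x hx
    obtain ⟨r, hr, rfl⟩ := Multiset.mem_map.1 hx
    exact hmem r hr
  rw [Multiset.sum_map_sub, Multiset.map_id', Multiset.map_const', Multiset.sum_replicate, hcard] at hsum
  have h2 : ((minpoly K z).map (algebraMap K L)).roots.sum ∈ (algebraMap K L).range := by
    rw [nextCoeff_map (algebraMap K L).injective] at h1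
    refine ⟨-(minpoly K z).nextCoeff, ?_⟩
    rw [map_neg, h1, neg_neg]
  have h3 : (minpoly K z).natDegree • z ∈ (algebraMap K L).range := by
    have := sub_mem h2 hsum
    rwa [sub_sub_cancel] at this
  obtain ⟨s, hs⟩ := h3
  have hd0 : ((minpoly K z).natDegree : K) ≠ 0 := by
    rw [Ne, CharP.cast_eq_zero_iff K p]
    exact fun hd => absurd (Nat.le_of_dvd hpos hd) (not_le.2 hlt)
  have h4 : algebraMap K L (s / (minpoly K z).natDegree) = z := by
    rw [map_div₀, hs, map_natCast, nsmul_eq_mul, mul_div_cancel_left₀]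
    rw [← map_natCast (algebraMap K L), Ne, map_eq_zero]
    exact hd0
  exact hcon.1 (by rw [hdeg]; exact finrank_eq_one_of_mem_bot hgen _ h4)

end K363.RamCases
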