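import Groth.Agent.Ega2.KrullAkizuki
import Mathlib.RingTheory.HopkinsLevitzki
import Mathlib.RingTheory.Artinian.Module
import Mathlib.RingTheory.Ideal.GoingUp
import Mathlib.RingTheory.KrullDimension.Basic

/-!
# Integral closure of a one-dimensional ring in a finite product of fields

`isNoetherianRing_integralClosure`: `B` a domain of dimension at most one with fraction field `L`, `L'` a reduced
ring integral over `L`, containing a Noetherian ring `R₁` integral over `B` with `L' = R₁ ⊗_B L`.  Then the integral
closure of `B` in `L'` is Noetherian (Krull-Akizuki on each factor).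
-/

set_option autoImplicit false
universe u v

namespace K363.IntClosNoeth

theorem isIntegral_pi {A : Type*} [CommRing A] {Q : Type*} [Finite Q] (K : Q → Type*)
    [∀ q, CommRing (K q)] [∀ q, Algebra A (K q)] (x : ∀ q, K q) (h : ∀ q, IsIntegral A (x q)) :
    IsIntegral A x := by
  classical
  have := Fintype.ofFinite Q
  choose f hf hfx using h
  refine ⟨∏ q, f q, Polynomial.monic_prod_of_monic _ _ fun q _ => hf q, ?_⟩
  funext q
  have h1 : (Pi.evalRingHom K q) (Polynomial.eval₂ (algebraMap A (∀ q, K q)) x (∏ q, f q)) = 0 := by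
    rw [Polynomial.hom_eval₂, Polynomial.eval₂_finsetProd]
    refine Finset.prod_eq_zero (Finset.mem_univ q) ?_
    exact hfx q
  exact h1

/-- an integral extension of a ring of dimension at most one has dimension at most one -/
theorem krullDimLE_one (A : Type*) {B : Type*} [CommRing A] [CommRing B] [Algebra A B]
    [Algebra.IsIntegral A B] [h : Ring.KrullDimLE 1 A] : Ring.KrullDimLE 1 B := by
  rw [Ring.KrullDimLE, Order.krullDimLE_iff] at h ⊢
  refine le_trans ?_ h
  refine Order.krullDim_le_of_strictMono (fun P : PrimeSpectrum B =>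
    (⟨P.asIdeal.comap (algebraMap A B), inferInstance⟩ : PrimeSpectrum A)) ?_
  intro P P' hlt
  have h1 : P.asIdeal < P'.asIdeal := hlt
  exact Ideal.IsIntegral.comap_lt_comap (R := A) h1

theorem krullDimLE_zero (K : Type*) {L : Type*} [Field K] [CommRing L] [Algebra K L]
    [Algebra.IsIntegral K L] : Ring.KrullDimLE 0 L := by
  refine Ring.KrullDimLE.mk₀ fun I hI => ?_
  refine Ideal.isMaximal_of_isIntegral_of_isMaximal_comap (R := K) I ?_
  have h1 : (I.comap (algebraMap K L)) ≠ ⊤ := Ideal.comap_ne_top _ hI.ne_top
  rcases Ideal.eq_bot_or_top (I.comap (algebraMap K L)) with h | h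
  · rw [h]; exact Ideal.bot_isMaximal
  · exact absurd h h1

section factor

variable {B L F : Type u} [CommRing B] [Ring.KrullDimLE 1 B] [Field F] [Algebra B F]

/-- Krull-Akizuki for one factor. -/
theorem isNoetherianRing_factor (hinj : Function.Injective (algebraMap B F)) (R : Subalgebra B F)
    [IsNoetherianRing R] [Algebra.IsIntegral B R]
    (hloc : ∀ x : F, ∃ b : B, b ≠ 0 ∧ algebraMap B F b * x ∈ R) :
    IsNoetherianRing (integralClosure B F) := by
  have hdim : Ring.KrullDimLE 1 R := krullDimLE_one B
  have hfrac : IsFractionRing R F := by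
    refine (isLocalization_iff (nonZeroDivisors R) F).2 ⟨?_, ?_, ?_⟩
    · rintro ⟨y, hy⟩
      rw [isUnit_iff_ne_zero]
      intro h0
      have h1 : y = 0 := Subtype.ext h0
      exact nonZeroDivisors.ne_zero hy h1
    · intro x
      obtain ⟨b, hb, hbx⟩ := hloc x
      refine ⟨⟨⟨_, hbx⟩, ⟨algebraMap B R b, mem_nonZeroDivisors_of_ne_zero ?_⟩⟩, ?_⟩
      · intro h0
        have h1 : algebraMap B F b = 0 := congrArg Subtype.val h0
        exact hb (hinj (h1.trans (map_zero _).symm))
      · exact mul_comm _ _
    · intro x y hxy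
      exact ⟨1, by rw [show x = y from Subtype.ext hxy]⟩
  have hle : R ≤ integralClosure B F := by
    intro x hx
    have h1 : IsIntegral B (⟨x, hx⟩ : R) := Algebra.IsIntegral.isIntegral _
    exact h1.map R.val
  let _ : Algebra R (integralClosure B F) := (Subalgebra.inclusion hle).toRingHom.toAlgebra
  have _ : IsScalarTower R (integralClosure B F) F := IsScalarTower.of_algebraMap_eq' rfl
  exact Groth.Agent.Ega2.KrullAkizuki.isNoetherianRing R F F (A := integralClosure B F)
    Subtype.val_injective

end factor

section main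

variable {B L L' : Type u} [CommRing B] [IsDomain B] [Ring.KrullDimLE 1 B] [Field L] [Algebra B L]
  [CommRing L'] [IsReduced L'] [Algebra L L'] [Algebra B L'] [IsScalarTower B L L']

include L in
/-- integral closure in a reduced algebra integral over the fraction field. -/
theorem isNoetherianRing_integralClosure (hinj : Function.Injective (algebraMap B L))
    [Algebra.IsIntegral L L'] (R : Subalgebra B L')
    [IsNoetherianRing R] [Algebra.IsIntegral B R]
    (hloc : ∀ x : L', ∃ b : B, b ≠ 0 ∧ algebraMap B L' b * x ∈ R) :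
    IsNoetherianRing (integralClosure B L') := by
  have hdim0 : Ring.KrullDimLE 0 L' := krullDimLE_zero L
  have hloc' : IsLocalization (Algebra.algebraMapSubmonoid R (nonZeroDivisors B)) L' := by
    refine (isLocalization_iff _ L').2 ⟨?_, ?_, ?_⟩
    · rintro ⟨_, b, hb, rfl⟩
      change IsUnit (algebraMap R L' (algebraMap B R b))
      rw [← IsScalarTower.algebraMap_apply B R L', IsScalarTower.algebraMap_apply B L L']
      refine IsUnit.map _ (isUnit_iff_ne_zero.2 ?_)
      intro h0
      exact nonZeroDivisors.ne_zero hb (hinj (h0.trans (map_zero _).symm))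
    · intro x
      obtain ⟨b, hb, hbx⟩ := hloc x
      exact ⟨⟨⟨_, hbx⟩, ⟨algebraMap B R b, ⟨b, mem_nonZeroDivisors_of_ne_zero hb, rfl⟩⟩⟩,
        mul_comm _ _⟩
    · intro x y hxy
      exact ⟨1, by rw [show x = y from Subtype.ext hxy]⟩
  have hnoeth : IsNoetherianRing L' :=
    IsLocalization.isNoetherianRing (Algebra.algebraMapSubmonoid R (nonZeroDivisors B)) L' inferInstance
  have hart : IsArtinianRing L' := isArtinianRing_iff_krullDimLE_zero.2 hdim0
  let e : L' ≃ₐ[B] (∀ m : MaximalSpectrum L', L' ⧸ m.asIdeal) :=
    (IsArtinianRing.equivPi L').restrictScalars B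
  have he : ∀ x m, e x m = Ideal.Quotient.mk m.asIdeal x := fun x m => rfl
  -- the factors
  have hfac : ∀ m : MaximalSpectrum L', IsNoetherianRing (integralClosure B (L' ⧸ m.asIdeal)) := by
    intro m
    letI : Field (L' ⧸ m.asIdeal) := Ideal.Quotient.field m.asIdeal
    let q : L' →ₐ[B] (L' ⧸ m.asIdeal) := Ideal.Quotient.mkₐ B m.asIdeal
    have hBq : Function.Injective (algebraMap B (L' ⧸ m.asIdeal)) := by
      have h1 : algebraMap B (L' ⧸ m.asIdeal) =
          ((Ideal.Quotient.mk m.asIdeal).comp (algebraMap L L')).comp (algebraMap B L) := by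
        ext b
        change Ideal.Quotient.mk m.asIdeal (algebraMap B L' b) = _
        rw [IsScalarTower.algebraMap_apply B L L']
        rfl
      rw [h1]
      exact ((Ideal.Quotient.mk m.asIdeal).comp (algebraMap L L')).injective.comp hinj
    have hR : IsNoetherianRing (R.map q) := by
      refine isNoetherianRing_of_surjective R (R.map q)
        ((q.comp R.val).codRestrict (R.map q) fun x => ⟨x, x.2, rfl⟩).toRingHom ?_
      rintro ⟨_, x, hx, rfl⟩
      exact ⟨⟨x, hx⟩, rfl⟩
    have hRint : Algebra.IsIntegral B (R.map q) := by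
      constructor
      rintro ⟨_, x, hx, rfl⟩
      have h1 : IsIntegral B (⟨x, hx⟩ : R) := Algebra.IsIntegral.isIntegral _
      exact h1.map ((q.comp R.val).codRestrict (R.map q) fun x => ⟨x, x.2, rfl⟩)
    refine isNoetherianRing_factor hBq (R.map q) ?_
    intro x
    obtain ⟨y, rfl⟩ := Ideal.Quotient.mk_surjective x
    obtain ⟨b, hb, hby⟩ := hloc y
    refine ⟨b, hb, _, hby, ?_⟩
    change q (algebraMap B L' b * y) = _
    rw [map_mul, AlgHom.commutes]
    rfl
  have hfin : Finite (MaximalSpectrum L') := inferInstance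
  -- the surjection from the product
  let ψ : (∀ m : MaximalSpectrum L', integralClosure B (L' ⧸ m.asIdeal)) →+* integralClosure B L' :=
    { toFun := fun x => ⟨e.symm (fun m => (x m : L' ⧸ m.asIdeal)),
        (isIntegral_pi _ _ fun m => (x m).2).map e.symm⟩
      map_one' := by
        apply Subtype.ext
        change e.symm (fun m => ((1 : integralClosure B (L' ⧸ m.asIdeal)) : L' ⧸ m.asIdeal)) = 1
        rw [AlgEquiv.symm_apply_eq, map_one]
        rfl
      map_mul' := fun x y => by
        apply Subtype.ext
        change e.symm _ = e.symm _ * e.symm _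
        rw [← map_mul]
        rfl
      map_zero' := by
        apply Subtype.ext
        change e.symm (fun m => ((0 : integralClosure B (L' ⧸ m.asIdeal)) : L' ⧸ m.asIdeal)) = 0
        rw [AlgEquiv.symm_apply_eq, map_zero]
        rfl
      map_add' := fun x y => by
        apply Subtype.ext
        change e.symm _ = e.symm _ + e.symm _
        rw [← map_add]
        rfl }
  refine isNoetherianRing_of_surjective _ _ ψ ?_
  rintro ⟨y, hy⟩
  refine ⟨fun m => ⟨Ideal.Quotient.mk m.asIdeal y, ?_⟩, ?_⟩
  · exact IsIntegral.map (Ideal.Quotient.mkₐ B m.asIdeal) hy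
  · apply Subtype.ext
    change e.symm (fun m => Ideal.Quotient.mk m.asIdeal y) = y
    rw [AlgEquiv.symm_apply_eq]
    funext m
    rw [he]

end main

end K363.IntClosNoeth
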