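import Groth.Agent.EtAlg.K363.RamCases
import Groth.Agent.EtAlg.K363.ResGen
import Groth.Agent.EtAlg.K363.UnrExt
import Mathlib.FieldTheory.KummerExtension

/-!
# Extensions `P(z) = ξ` of a discretely valued field with `P = X ^ p - X + (small terms)`

`IsAS p P`: `P = X ^ p - X + Σ_{0<i<p} a_i X ^ i` with `a_i` in the maximal ideal of the DVR `A` of residue
characteristic `p`.  Ramification of `K(z)` where `P(z) = ξ ∈ K`, in the three basic cases, and (`trichotomy`) the
reduction of the general case to them when `P` has the group law `P(x + y + w x y) = P(x) + P(y) + w^p P(x) P(y)` of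
the polynomial `((1 + w X) ^ p - 1) / w ^ p` (`w = 0`: Artin-Schreier, `w = 1 - ζ_p`: Kummer).
-/

set_option autoImplicit false
universe u

open IsLocalRing EtRam Groth.Agent.Etalg Polynomial

namespace K363.RamCases

section poly

variable {A : Type u} [CommRing A] [IsLocalRing A]

/-- `P = X ^ p - X + Σ_{0<i<p} a_i X ^ i` with `a_i` in the maximal ideal. -/
def IsAS (p : ℕ) (P : A[X]) : Prop :=
  ∃ a : ℕ → A, (∀ i, a i ∈ maximalIdeal A) ∧
    P = X ^ p - X + (Finset.Ioo 0 p).sum (fun i => C (a i) * X ^ i)

omit [IsLocalRing A] in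
theorem IsAS.degree_lt {p : ℕ} (hp : 2 ≤ p) (a : ℕ → A) (b : A) :
    (-X + (Finset.Ioo 0 p).sum (fun i => C (a i) * X ^ i) - C b : A[X]).degree < p := by
  have h1 : ((X : A[X])).degree < p := by
    refine lt_of_le_of_lt degree_X_le ?_
    exact_mod_cast hp
  have h2 : ((Finset.Ioo 0 p).sum (fun i => C (a i) * X ^ i) : A[X]).degree < p := by
    refine lt_of_le_of_lt (degree_sum_le _ _) ?_
    rw [Finset.sup_lt_iff (by exact_mod_cast WithBot.bot_lt_coe p)]
    intro i hi
    refine lt_of_le_of_lt (degree_C_mul_X_pow_le _ _) ?_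
    exact_mod_cast (Finset.mem_Ioo.1 hi).2
  have h3 : (C b : A[X]).degree < p := by
    refine lt_of_le_of_lt degree_C_le ?_
    exact_mod_cast (by omega : 0 < p)
  refine lt_of_le_of_lt (degree_sub_le _ _) (max_lt ?_ h3)
  refine lt_of_le_of_lt (degree_add_le _ _) (max_lt ?_ h2)
  rwa [degree_neg]

theorem IsAS.monic_sub {p : ℕ} (hp : 2 ≤ p) {P : A[X]} (hP : IsAS p P) (b : A) :
    (P - C b).Monic ∧ (P - C b).natDegree = p := by
  obtain ⟨a, -, rfl⟩ := hP
  have h1 : (X ^ p - X + (Finset.Ioo 0 p).sum (fun i => C (a i) * X ^ i) - C b : A[X]) =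
      X ^ p + (-X + (Finset.Ioo 0 p).sum (fun i => C (a i) * X ^ i) - C b) := by ring
  rw [h1]
  have h2 := IsAS.degree_lt hp a b
  refine ⟨monic_X_pow_add h2, ?_⟩
  rw [natDegree_eq_of_degree_eq_some]
  rw [degree_add_eq_left_of_degree_lt, degree_X_pow]
  rwa [degree_X_pow]

theorem IsAS.aeval_eq {p : ℕ} {P : A[X]} (hP : IsAS p P) :
    ∃ a : ℕ → A, (∀ i, a i ∈ maximalIdeal A) ∧ ∀ (S : Type u) [CommRing S] [Algebra A S] (x : S),
      aeval x P = x ^ p - x + (Finset.Ioo 0 p).sum (fun i => algebraMap A S (a i) * x ^ i) := by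
  obtain ⟨a, ha, rfl⟩ := hP
  refine ⟨a, ha, fun S _ _ x => ?_⟩
  simp [map_sum]

end poly

section val

variable {A K L : Type u} [CommRing A] [IsDomain A] [IsDiscreteValuationRing A]
  [Field K] [Algebra A K] [IsFractionRing A K] [Field L] [Algebra K L] [Algebra A L]
  [IsScalarTower A K L]

variable {p : ℕ} {P : A[X]} {V : ValuationSubring L}

omit [IsDomain A] [IsDiscreteValuationRing A] in
theorem IsAS.val_sub_lt [IsLocalRing A] (hp : 2 ≤ p) (hP : IsAS p P) (h : Dominates A (algebraMap A L) V) {x : L}
    (hx : 1 < V.valuation x) : V.valuation (x ^ p - aeval x P) < V.valuation x ^ p := by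
  obtain ⟨a, ha, hPa⟩ := hP.aeval_eq
  rw [hPa L x, show x ^ p - (x ^ p - x + (Finset.Ioo 0 p).sum (fun i => algebraMap A L (a i) * x ^ i)) =
    x - (Finset.Ioo 0 p).sum (fun i => algebraMap A L (a i) * x ^ i) by ring]
  refine lt_of_le_of_lt (V.valuation.map_sub _ _) (max_lt ?_ ?_)
  · calc V.valuation x = V.valuation x ^ 1 := (pow_one _).symm
      _ < V.valuation x ^ p := pow_lt_pow_right₀ hx (by omega)
  · refine Valuation.map_sum_lt V.valuation (pow_ne_zero _ (zero_lt_one.trans hx).ne') ?_
    intro i hi
    rw [map_mul, map_pow]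
    calc V.valuation (algebraMap A L (a i)) * V.valuation x ^ i ≤ 1 * V.valuation x ^ i :=
          mul_le_mul_left (RamDVR.valuation_le_one h _) _
      _ = V.valuation x ^ i := one_mul _
      _ < V.valuation x ^ p := pow_lt_pow_right₀ hx (Finset.mem_Ioo.1 hi).2

omit [IsDomain A] [IsDiscreteValuationRing A] in
theorem IsAS.val_le_one [IsLocalRing A] (hP : IsAS p P) (h : Dominates A (algebraMap A L) V) {x : L}
    (hx : V.valuation x ≤ 1) : V.valuation (aeval x P) ≤ 1 := by
  rw [ValuationSubring.valuation_le_one_iff] at hx ⊢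
  obtain ⟨a, ha, hPa⟩ := hP.aeval_eq
  rw [hPa L x]
  refine add_mem (sub_mem (pow_mem hx _) hx) (sum_mem fun i _ => mul_mem (h.1 _) (pow_mem hx _))

omit [IsDomain A] [IsDiscreteValuationRing A] in
theorem IsAS.val_eq [IsLocalRing A] (hp : 2 ≤ p) (hP : IsAS p P) (h : Dominates A (algebraMap A L) V) {x : L}
    (hx : 1 < V.valuation (aeval x P)) :
    V.valuation (aeval x P) = V.valuation x ^ p ∧
      V.valuation (x ^ p - aeval x P) < V.valuation x ^ p := by
  have h1 : 1 < V.valuation x := by
    by_contra hle
    exact absurd (hP.val_le_one h (not_lt.1 hle)) (not_le.2 hx)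
  have h2 := hP.val_sub_lt hp h h1
  refine ⟨?_, h2⟩
  rw [← map_pow] at h2 ⊢
  have h3 := Valuation.map_sub_eq_of_lt_left V.valuation h2
  rw [← h3]
  congr 1
  ring

omit [IsDomain A] [IsDiscreteValuationRing A] in
theorem IsAS.deriv [IsLocalRing A] [CharP (ResidueField A) p] (hP : IsAS p P)
    (h : Dominates A (algebraMap A L) V) {x : L} (hx : V.valuation x ≤ 1) :
    1 ≤ V.valuation (aeval x P.derivative) := by
  obtain ⟨a, ha, rfl⟩ := hP
  have hp0 : (p : A) ∈ maximalIdeal A := by
    rw [← residue_eq_zero_iff, map_natCast, CharP.cast_eq_zero]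
  have h1 : aeval x (derivative (X ^ p - X + (Finset.Ioo 0 p).sum (fun i => C (a i) * X ^ i) : A[X])) =
      (algebraMap A L (p : A) * x ^ (p - 1) + (Finset.Ioo 0 p).sum (fun i => algebraMap A L (a i) *
        ((i : L) * x ^ (i - 1)))) - 1 := by
    rw [derivative_add, derivative_sub, derivative_X_pow, derivative_X, derivative_sum, map_add, map_sub,
      map_sum]
    simp only [derivative_C_mul, derivative_X_pow, map_mul, map_pow, aeval_X, aeval_C, map_one]
    simp only [map_natCast]
    ring
  have h2 : V.valuation (algebraMap A L (p : A) * x ^ (p - 1) + (Finset.Ioo 0 p).sum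
      (fun i => algebraMap A L (a i) * ((i : L) * x ^ (i - 1)))) < 1 := by
    refine lt_of_le_of_lt (V.valuation.map_add _ _) (max_lt ?_ ?_)
    · rw [map_mul, map_pow]
      calc V.valuation (algebraMap A L (p : A)) * V.valuation x ^ (p - 1) ≤
            V.valuation (algebraMap A L (p : A)) * 1 :=
            mul_le_mul_right (pow_le_one₀ zero_le hx) _
        _ = V.valuation (algebraMap A L (p : A)) := mul_one _
        _ < 1 := h.2 _ hp0
    · refine Valuation.map_sum_lt V.valuation one_ne_zero ?_
      intro i _
      have h3 : V.valuation ((i : L) * x ^ (i - 1)) ≤ 1 := by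
        rw [ValuationSubring.valuation_le_one_iff] at hx ⊢
        exact mul_mem (natCast_mem V i) (pow_mem hx _)
      rw [map_mul]
      calc V.valuation (algebraMap A L (a i)) * V.valuation ((i : L) * x ^ (i - 1)) ≤
            V.valuation (algebraMap A L (a i)) * 1 := mul_le_mul_right h3 _
        _ = V.valuation (algebraMap A L (a i)) := mul_one _
        _ < 1 := h.2 _ (ha i)
  rw [h1]
  have h4 : V.valuation (algebraMap A L (p : A) * x ^ (p - 1) + (Finset.Ioo 0 p).sum
      (fun i => algebraMap A L (a i) * ((i : L) * x ^ (i - 1)))) < V.valuation 1 := by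
    rwa [map_one]
  rw [Valuation.map_sub_swap, Valuation.map_sub_eq_of_lt_left V.valuation h4, map_one]

end val

section cases

variable {A K L : Type u} [CommRing A] [IsDomain A] [IsDiscreteValuationRing A]
  [Field K] [Algebra A K] [IsFractionRing A K] [Field L] [Algebra K L] [Algebra A L]
  [IsScalarTower A K L]

variable {p : ℕ} {P : A[X]}

/-- the four cases of the trichotomy, the conclusion for `ξ` of the form (C). -/
def Insep (A : Type u) {L : Type u} [CommRing A] [IsLocalRing A] [Field L] [Algebra A L] (p : ℕ) : Prop :=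
  (∃ V : ValuationSubring L, Dominates A (algebraMap A L) V) ∧
      (∀ V V' : ValuationSubring L, Dominates A (algebraMap A L) V →
        Dominates A (algebraMap A L) V' → V = V') ∧
      ∀ (V : ValuationSubring L) (h : Dominates A (algebraMap A L) V),
        letI : Algebra A V := (RingHom.codRestrict (algebraMap A L) V h.1).toAlgebra
        ∀ [IsLocalHom (algebraMap A V)],
          IsWeaklyUnramified A V ∧
            IsPurelyInseparable (ResidueField A) (ResidueField V) ∧
            Module.finrank (ResidueField A) (ResidueField V) = p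

theorem algAdjoin_eq_top [FiniteDimensional K L] {z : L}
    (hgen : IntermediateField.adjoin K {z} = ⊤) : Algebra.adjoin K {z} = ⊤ := by
  rw [← IntermediateField.adjoin_simple_toSubalgebra_of_isAlgebraic
    (Algebra.IsAlgebraic.isAlgebraic z), hgen]
  rfl

/-- (A) -/
theorem caseA [FiniteDimensional K L] [Algebra.IsSeparable K L] (hp : 2 ≤ p)
    [CharP (ResidueField A) p] (hP : IsAS p P) (a : A) (z : L) (hz : aeval z P = algebraMap A L a)
    (hgen : IntermediateField.adjoin K {z} = ⊤) : IsUnramifiedExt A (algebraMap A L) := by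
  have h0 : aeval z (P - C a) = 0 := by rw [map_sub, hz, aeval_C, sub_self]
  refine unrExt (K := K) (P - C a) (hP.monic_sub hp a).1 z h0 (algAdjoin_eq_top hgen) ?_
  intro V h
  rw [derivative_sub, derivative_C, sub_zero]
  refine hP.deriv h ?_
  have hint : IsIntegral A z := ⟨P - C a, (hP.monic_sub hp a).1, h0⟩
  have h1 := RamDict.algebraMap_mem (integralClosure A L) h.1 ⟨z, hint⟩
  exact (V.valuation_le_one_iff z).2 h1

/-- (B), general form -/
theorem caseB' [FiniteDimensional K L] (hp : p.Prime) (hfin : Module.finrank K L ≤ p) {π : A}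
    (hπ : maximalIdeal A = Ideal.span {π}) (x : L) (m : ℤ) (hm : ¬ (p : ℤ) ∣ m)
    (hx : ∀ V : ValuationSubring L, Dominates A (algebraMap A L) V →
      V.valuation x ^ p = V.valuation (algebraMap A L π) ^ m) :
    IsTotallyRamified A (algebraMap A L) ∧ Module.finrank K L = p := by
  have hcop : IsCoprime m (p : ℤ) :=
    ((Nat.prime_iff_prime_int.1 hp).irreducible.coprime_iff_not_dvd.2 hm).symm
  obtain ⟨s, t, hst⟩ := hcop
  refine totRam hπ p hp.pos hfin (x ^ s * algebraMap A L π ^ t) ?_
  intro V h
  have hq0 := val_pi_pos K h hπ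
  have hx0 : V.valuation x ≠ 0 := by
    intro h0
    have := hx V h
    rw [h0, zero_pow hp.ne_zero] at this
    exact (zpow_pos hq0 _).ne this
  rw [map_mul, map_zpow₀, map_zpow₀, mul_pow, ← zpow_natCast, ← zpow_natCast, ← zpow_mul, ← zpow_mul,
    mul_comm s, zpow_mul, zpow_natCast, hx V h, ← zpow_mul, ← zpow_add₀ hq0.ne',
    show m * s + t * (p : ℤ) = 1 by rw [← hst]; ring, zpow_one]

/-- (B) -/
theorem caseB [FiniteDimensional K L] (hp : p.Prime) (hP : IsAS p P)
    (hfin : Module.finrank K L ≤ p) {π : A}
    (hπ : maximalIdeal A = Ideal.span {π}) (n : ℕ) (hn : 0 < n) (hpn : ¬ p ∣ n) (a : Aˣ) (z : L)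
    (hz : aeval z P * algebraMap A L π ^ n = algebraMap A L a) :
    IsTotallyRamified A (algebraMap A L) ∧ Module.finrank K L = p := by
  refine caseB' hp hfin hπ z (-n) (by rwa [dvd_neg, Int.natCast_dvd_natCast]) ?_
  intro V h
  have hq0 := val_pi_pos K h hπ
  have hq1 := val_pi_lt h hπ
  have h1 : V.valuation (aeval z P) = V.valuation (algebraMap A L π) ^ (-(n : ℤ)) := by
    have h2 := congrArg V.valuation hz
    rw [map_mul, map_pow, val_unit h] at h2
    rw [zpow_neg, zpow_natCast]
    exact eq_inv_of_mul_eq_one_left h2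
  have h3 : 1 < V.valuation (aeval z P) := by
    rw [h1]
    exact one_lt_zpow_of_neg₀ hq0 hq1 (by omega)
  rw [← (hP.val_eq hp.two_le h h3).1, h1]

/-- (C) -/
theorem caseC [FiniteDimensional K L] (hp : p.Prime) [CharP (ResidueField A) p] (hP : IsAS p P)
    (hfin : Module.finrank K L ≤ p) {π : A}
    (hπ : maximalIdeal A = Ideal.span {π}) (n : ℕ) (hn : 0 < n) (hpn : p ∣ n) (a : A)
    (ha : ∀ r : A, residue A a ≠ residue A r ^ p) (z : L)
    (hz : aeval z P * algebraMap A L π ^ n = algebraMap A L a) :
    Insep A (L := L) p := by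
  obtain ⟨k, rfl⟩ := hpn
  refine insep (K := K) hp hπ hfin a ha (z * algebraMap A L π ^ k) ?_
  intro V h
  have hq0 := val_pi_pos K h hπ
  have hq1 := val_pi_lt h hπ
  have hau : IsUnit a := by
    by_contra hna
    have h1 : residue A a = 0 := (residue_eq_zero_iff a).2 ((mem_maximalIdeal a).2 hna)
    exact ha 0 (by rw [h1, map_zero, zero_pow hp.ne_zero])
  have h1 : V.valuation (aeval z P) = V.valuation (algebraMap A L π) ^ (-((p * k : ℕ) : ℤ)) := by
    have h2 := congrArg V.valuation hz
    rw [map_mul, map_pow, RamDVR.valuation_eq_one_of_isUnit h hau] at h2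
    rw [zpow_neg, zpow_natCast]
    exact eq_inv_of_mul_eq_one_left h2
  have h3 : 1 < V.valuation (aeval z P) := by
    rw [h1]
    exact one_lt_zpow_of_neg₀ hq0 hq1 (by omega)
  obtain ⟨h4, h5⟩ := hP.val_eq hp.two_le h h3
  have h6 : (z * algebraMap A L π ^ k) ^ p - algebraMap A L a =
      (z ^ p - aeval z P) * algebraMap A L π ^ (p * k) := by
    rw [← hz]; ring
  rw [h6, map_mul, map_pow]
  calc V.valuation (z ^ p - aeval z P) * V.valuation (algebraMap A L π) ^ (p * k) <
        V.valuation z ^ p * V.valuation (algebraMap A L π) ^ (p * k) :=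
        mul_lt_mul_of_pos_right h5 (pow_pos hq0 _)
    _ = 1 := by
      rw [← h4, h1, zpow_neg, zpow_natCast, inv_mul_cancel₀ (pow_ne_zero _ hq0.ne')]

end cases

section tri

variable {A K L : Type u} [CommRing A] [IsDomain A] [IsDiscreteValuationRing A]
  [Field K] [Algebra A K] [IsFractionRing A K] [Field L] [Algebra K L] [Algebra A L]
  [IsScalarTower A K L]

variable {p : ℕ} {P : A[X]}

/-- the fourfold alternative. -/
def Four (A K L : Type u) [CommRing A] [IsLocalRing A] [Field K] [Field L] [Algebra K L] [Algebra A L]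
    (p : ℕ) : Prop :=
  Module.finrank K L = 1 ∨ (IsUnramifiedExt A (algebraMap A L) ∧ Module.finrank K L = p) ∨
    (IsTotallyRamified A (algebraMap A L) ∧ Module.finrank K L = p) ∨ Insep A (L := L) p

theorem val_lt_one_iff_exists {π : A} (hπ : maximalIdeal A = Ideal.span {π}) {c : K} :
    (RamBasic.vsub A K).valuation c < 1 ↔ ∃ a ∈ maximalIdeal A, algebraMap A K a = c := by
  have h := RamBasic.dominates_vsub A K
  constructor
  · intro hc
    obtain ⟨a, rfl⟩ := mem_range_of_val_le_one (K := K) h hπ (c := c) hc.le
    exact ⟨a, (RamDVR.valuation_lt_one_iff h a).1 hc, rfl⟩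
  · rintro ⟨a, ha, rfl⟩
    exact (RamDVR.valuation_lt_one_iff h a).2 ha

theorem adjoin_eq_top_of {z z₁ : L} (hgen : IntermediateField.adjoin K {z} = ⊤)
    (hz : z ∈ IntermediateField.adjoin K {z₁}) : IntermediateField.adjoin K {z₁} = ⊤ := by
  rw [eq_top_iff, ← hgen]
  exact IntermediateField.adjoin_le_iff.2 (by rwa [Set.singleton_subset_iff])

/-- The reduction of the general case to the three basic ones. -/
theorem trichotomy [FiniteDimensional K L] [Algebra.IsSeparable K L] (hp : p.Prime)
    [CharP (ResidueField A) p] (hP : IsAS p P) (w : A) (hwP : C (w ^ p) * P = (1 + C w * X) ^ p - 1)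
    (hgl : ∀ x y : L, aeval (x + y + algebraMap A L w * x * y) P =
      aeval x P + aeval y P + algebraMap A L (w ^ p) * aeval x P * aeval y P)
    (hfin : Module.finrank K L = 1 ∨ Module.finrank K L = p) {π : A}
    (hπ : maximalIdeal A = Ideal.span {π}) (N : ℕ) :
    ∀ (z : L) (ξ : K), aeval z P = algebraMap K L ξ → IntermediateField.adjoin K {z} = ⊤ →
      (RamBasic.vsub A K).valuation (algebraMap A K w ^ p * ξ) < 1 →
      (RamBasic.vsub A K).valuation (ξ * algebraMap A K π ^ N) ≤ 1 → Four A K L p := by
  have hfin' : Module.finrank K L ≤ p := by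
    rcases hfin with h | h
    · rw [h]; exact hp.one_le
    · exact h.le
  have hdom := RamBasic.dominates_vsub A K
  set v := (RamBasic.vsub A K).valuation with hv
  have hπ0 : algebraMap A K π ≠ 0 := by
    have hirr : Irreducible π := (IsDiscreteValuationRing.irreducible_iff_uniformizer π).2 hπ
    rw [Ne, map_eq_zero_iff _ (IsFractionRing.injective A K)]; exact hirr.ne_zero
  have hq0 : 0 < v (algebraMap A K π) := val_pi_pos K hdom hπ
  have hq1 : v (algebraMap A K π) < 1 := val_pi_lt hdom hπ
  have hrange : ∀ c : K, v c ≤ 1 → ∃ a : A, algebraMap A K a = c := fun c hc =>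
    mem_range_of_val_le_one (K := K) hdom hπ hc
  induction N with
  | zero =>
    intro z ξ hz hgen hwξ hN
    rw [pow_zero, mul_one] at hN
    obtain ⟨a, rfl⟩ := hrange ξ hN
    have h1 : IsUnramifiedExt A (algebraMap A L) := by
      refine caseA (K := K) hp.two_le hP a z ?_ hgen
      rw [hz, ← IsScalarTower.algebraMap_apply]
    rcases hfin with h | h
    · exact Or.inl h
    · exact Or.inr (Or.inl ⟨h1, h⟩)
  | succ N ih =>
    intro z ξ hz hgen hwξ hN
    obtain ⟨a, ha⟩ := hrange _ hN
    by_cases hau : a ∈ maximalIdeal A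
    · rw [hπ, Ideal.mem_span_singleton] at hau
      obtain ⟨a', rfl⟩ := hau
      refine ih z ξ hz hgen hwξ ?_
      have h1 : ξ * algebraMap A K π ^ N = algebraMap A K a' := by
        apply mul_left_cancel₀ hπ0
        rw [← map_mul, ha]
        ring
      rw [h1]
      exact RamDVR.valuation_le_one hdom a'
    · have haunit : IsUnit a := by
        by_contra hna
        exact hau ((mem_maximalIdeal a).2 hna)
      have haL : aeval z P * algebraMap A L π ^ (N + 1) = algebraMap A L a := by
        rw [IsScalarTower.algebraMap_apply A K L a, ha, map_mul, map_pow, ← hz,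
          ← IsScalarTower.algebraMap_apply]
      by_cases hpN : p ∣ N + 1
      · by_cases hres : ∀ r : A, residue A a ≠ residue A r ^ p
        · exact Or.inr (Or.inr (Or.inr (caseC (K := K) hp hP hfin' hπ (N + 1) (by omega) hpN a hres z haL)))
        · push Not at hres
          obtain ⟨r, hr⟩ := hres
          obtain ⟨k, hk⟩ := hpN
          have hk0 : 0 < k := by
            rcases Nat.eq_zero_or_pos k with h | h
            · rw [h, mul_zero] at hk; omega
            · exact h
          have hrunit : IsUnit r := by
            by_contra hna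
            have h1 : residue A r = 0 := (residue_eq_zero_iff r).2 ((mem_maximalIdeal r).2 hna)
            rw [h1, zero_pow hp.ne_zero, residue_eq_zero_iff] at hr
            exact hau hr
          have hac : a - r ^ p ∈ maximalIdeal A := by
            rw [← residue_eq_zero_iff, map_sub, map_pow, hr, sub_self]
          rw [hπ, Ideal.mem_span_singleton] at hac
          obtain ⟨c, hc⟩ := hac
          obtain ⟨b, hb⟩ : ∃ b : K, b = algebraMap A K r * (algebraMap A K π ^ k)⁻¹ := ⟨_, rfl⟩
          have hvr : v (algebraMap A K r) = 1 := RamDVR.valuation_eq_one_of_isUnit hdom hrunit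
          have hva : v (algebraMap A K a) = 1 := RamDVR.valuation_eq_one_of_isUnit hdom haunit
          have hvb : v b = (v (algebraMap A K π) ^ k)⁻¹ := by
            rw [hb, map_mul, map_inv₀, map_pow, hvr, one_mul]
          have hwb : v (algebraMap A K w * b) < 1 := by
            have h1 : v (algebraMap A K w * b) ^ p < 1 := by
              have h2 : v ξ * v (algebraMap A K π) ^ (N + 1) = 1 := by
                rw [← map_pow, ← map_mul, ← ha, hva]
              have h3 : v ξ = (v (algebraMap A K π) ^ (N + 1))⁻¹ := eq_inv_of_mul_eq_one_left h2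
              rw [map_mul, map_pow, h3] at hwξ
              rw [map_mul, mul_pow, hvb, inv_pow, ← pow_mul, mul_comm k p, ← hk]
              exact hwξ
            exact (pow_lt_one_iff hp.ne_zero).1 h1
          obtain ⟨d, hd, hdw⟩ := (val_lt_one_iff_exists hπ).1 hwb
          have hed : algebraMap A K (1 + d) = 1 + algebraMap A K w * b := by
            rw [map_add, map_one, hdw]
          have heunit : IsUnit (1 + d) := by
            by_contra hna
            have h1 : 1 + d ∈ maximalIdeal A := (mem_maximalIdeal _).2 hna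
            have h2 : (1 : A) ∈ maximalIdeal A := by
              have := sub_mem h1 hd
              simp at this
            exact (Ideal.ne_top_iff_one _).1 (IsLocalRing.maximalIdeal.isMaximal A).ne_top h2
          obtain ⟨e, he⟩ : ∃ e : K, e = 1 + algebraMap A K w * b := ⟨_, rfl⟩
          rw [← he] at hed
          have hve : v e = 1 := by
            rw [← hed]; exact RamDVR.valuation_eq_one_of_isUnit hdom heunit
          have he0 : e ≠ 0 := by
            intro h0
            rw [h0, map_zero] at hve
            exact zero_ne_one hve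
          have heL0 : algebraMap K L e ≠ 0 := by rwa [Ne, map_eq_zero]
          obtain ⟨β, hβ⟩ : ∃ β : K, β = aeval b P := ⟨_, rfl⟩
          have hβw : algebraMap A K w ^ p * β = e ^ p - 1 := by
            have h1 := congrArg (aeval b) hwP
            simp only [map_mul, map_sub, map_pow, map_add, map_one, aeval_X, aeval_C] at h1
            rw [hβ, h1, he]
          have hβL : aeval (algebraMap K L b) P = algebraMap K L β := by
            rw [hβ, aeval_algebraMap_apply]
          obtain ⟨z₁, hz₁⟩ : ∃ z₁ : L, z₁ = (z - algebraMap K L b) / algebraMap K L e := ⟨_, rfl⟩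
          have hzz : z = algebraMap K L b + algebraMap K L e * z₁ := by
            rw [hz₁]
            field_simp
            ring
          have hzg : z = algebraMap K L b + z₁ + algebraMap A L w * algebraMap K L b * z₁ := by
            conv_lhs => rw [hzz]
            rw [he, map_add, map_one, map_mul, ← IsScalarTower.algebraMap_apply]
            ring
          have hPz := hgl (algebraMap K L b) z₁
          rw [← hzg, hz, hβL] at hPz
          have hz₁P : aeval z₁ P = algebraMap K L ((ξ - β) / e ^ p) := by
            have h1 : algebraMap K L (e ^ p) = 1 + algebraMap A L (w ^ p) * algebraMap K L β := by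
              have h2 : e ^ p = 1 + algebraMap A K w ^ p * β := by rw [hβw]; ring
              rw [h2, map_add, map_one, map_mul, map_pow, map_pow,
                ← IsScalarTower.algebraMap_apply]
            rw [map_div₀, eq_div_iff (by rw [map_pow]; exact pow_ne_zero _ heL0), h1, map_sub, hPz]
            ring
          refine ih z₁ ((ξ - β) / e ^ p) hz₁P ?_ ?_ ?_
          · refine adjoin_eq_top_of hgen ?_
            rw [hzz]
            refine add_mem (IntermediateField.algebraMap_mem _ _) (mul_mem
              (IntermediateField.algebraMap_mem _ _) (IntermediateField.subset_adjoin K _ rfl))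
          · have h1 : algebraMap A K w ^ p * ((ξ - β) / e ^ p) =
                (algebraMap A K w ^ p * ξ - (e ^ p - 1)) / e ^ p := by
              rw [← hβw]; ring
            rw [h1, map_div₀, map_pow, hve, one_pow, div_one]
            refine lt_of_le_of_lt (v.map_sub _ _) (max_lt hwξ ?_)
            rw [← hed, ← map_pow, ← map_one (algebraMap A K), ← map_sub]
            refine (RamDVR.valuation_lt_one_iff hdom _).2 ?_
            have h2 : (1 + d) - 1 ∣ (1 + d) ^ p - 1 ^ p := sub_dvd_pow_sub_pow _ _ _
            rw [one_pow, add_sub_cancel_left] at h2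
            exact Ideal.mem_of_dvd _ h2 hd
          · rw [map_mul, map_div₀, map_pow v e, hve, one_pow, div_one, ← map_mul]
            obtain ⟨s, hs, hsP⟩ := hP.aeval_eq
            rw [hβ, hsP K b]
            have hbk : b * algebraMap A K π ^ k = algebraMap A K r := by
              rw [hb, mul_assoc, inv_mul_cancel₀ (pow_ne_zero _ hπ0), mul_one]
            have h2k : 2 * k ≤ N + 1 := by
              rw [hk]; exact Nat.mul_le_mul_right k hp.two_le
            have hpow : ∀ i, i * k ≤ N → v (b ^ i * algebraMap A K π ^ N) ≤ 1 := by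
              intro i hi
              obtain ⟨j, rfl⟩ := Nat.exists_eq_add_of_le hi
              have h3 : b ^ i * algebraMap A K π ^ (i * k + j) =
                  (b * algebraMap A K π ^ k) ^ i * algebraMap A K π ^ j := by
                rw [mul_pow, ← pow_mul, pow_add, mul_comm k i]; ring
              rw [h3, hbk, ← map_pow, ← map_pow, ← map_mul]
              exact RamDVR.valuation_le_one hdom _
            have hfirst : (ξ - b ^ p) * algebraMap A K π ^ N = algebraMap A K c := by
              apply mul_left_cancel₀ hπ0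
              rw [← map_mul, ← hc, map_sub, ha, map_pow, ← hbk, mul_pow, ← pow_mul, mul_comm k p, ← hk]
              ring
            have hsum : (ξ - (b ^ p - b + (Finset.Ioo 0 p).sum (fun i => algebraMap A K (s i) * b ^ i))) *
                algebraMap A K π ^ N = (ξ - b ^ p) * algebraMap A K π ^ N + b ^ 1 * algebraMap A K π ^ N -
                  (Finset.Ioo 0 p).sum (fun i => algebraMap A K (s i) * (b ^ i * algebraMap A K π ^ N)) := by
              have h4 : (Finset.Ioo 0 p).sum (fun i => algebraMap A K (s i) * (b ^ i * algebraMap A K π ^ N)) =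
                  (Finset.Ioo 0 p).sum (fun i => algebraMap A K (s i) * b ^ i) * algebraMap A K π ^ N := by
                rw [Finset.sum_mul]
                exact Finset.sum_congr rfl fun i _ => by ring
              rw [h4]; ring
            rw [hsum, hfirst]
            refine (v.map_sub _ _).trans (max_le ((v.map_add _ _).trans (max_le ?_ ?_)) ?_)
            · exact RamDVR.valuation_le_one hdom _
            · exact hpow 1 (by omega)
            · refine Valuation.map_sum_le v ?_
              intro i hi
              rw [Finset.mem_Ioo] at hi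
              rw [map_mul]
              refine mul_le_one₀ (RamDVR.valuation_le_one hdom _) zero_le (hpow i ?_)
              have h5 : (i + 1) * k ≤ p * k := Nat.mul_le_mul_right k hi.2
              rw [← hk, Nat.add_mul] at h5
              omega
      · exact Or.inr (Or.inr (Or.inl (caseB (K := K) hp hP hfin' hπ (N + 1) (by omega) hpN haunit.unit z haL)))

end tri

end K363.RamCases
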