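import Groth.Agent.EtAlg.K363.KumExt
import Groth.Agent.EtAlg.K361.KummerAS
import Mathlib.FieldTheory.Galois.Basic

/-!
# Kummer type extensions of degree `p` in mixed characteristic: the four cases
-/

set_option autoImplicit false
universe u

open IsLocalRing EtRam Groth.Agent.Etalg Polynomial

namespace K363.RamCases

section degree

variable {K L : Type u} [Field K] [Field L] [Algebra K L]

theorem finrank_eq_one_of_mem_bot {y : L} (hgen : IntermediateField.adjoin K {y} = ⊤) (s : K)
    (hs : algebraMap K L s = y) : Module.finrank K L = 1 := by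
  have h1 : IntermediateField.adjoin K {y} = ⊥ := by
    rw [IntermediateField.adjoin_simple_eq_bot_iff, IntermediateField.mem_bot]
    exact ⟨s, hs⟩
  rw [← IntermediateField.finrank_top', ← hgen, h1, IntermediateField.finrank_bot]

/-- degree and Galois property of a Kummer extension of prime degree -/
theorem kummer_degree {p : ℕ} (hp : p.Prime) [CharZero K] {ζ : K} (hζ : IsPrimitiveRoot ζ p)
    (y : L) (θ : K) (hy : y ^ p = algebraMap K L θ) (hgen : IntermediateField.adjoin K {y} = ⊤) :
    FiniteDimensional K L ∧ IsGalois K L ∧ (Module.finrank K L = 1 ∨ Module.finrank K L = p) := by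
  have hyint : IsIntegral K y := by
    refine ⟨X ^ p - C θ, monic_X_pow_sub_C θ hp.ne_zero, ?_⟩
    rw [← aeval_def, map_sub, map_pow, aeval_X, aeval_C, hy, sub_self]
  have hfd : FiniteDimensional K L := by
    have h1 : FiniteDimensional K (IntermediateField.adjoin K {y}) :=
      IntermediateField.adjoin.finiteDimensional hyint
    rw [hgen] at h1
    exact Module.Finite.equiv (IntermediateField.topEquiv (F := K) (E := L)).toLinearEquiv
  have hζL : IsPrimitiveRoot (algebraMap K L ζ) p := hζ.map_of_injective (algebraMap K L).injective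
  have hadj : Algebra.adjoin K {y} = ⊤ := algAdjoin_eq_top hgen
  have hsep : Algebra.IsSeparable K L := inferInstance
  have hgal : IsGalois K L := by
    have hspl : (X ^ p - C θ : K[X]).IsSplittingField K L := by
      constructor
      · rw [Polynomial.map_sub, Polynomial.map_pow, map_X, map_C]
        exact X_pow_sub_C_splits_of_isPrimitiveRoot hζL hy
      · rw [eq_top_iff, ← hadj]
        refine Algebra.adjoin_mono ?_
        rw [Set.singleton_subset_iff, mem_rootSet']
        refine ⟨?_, ?_⟩
        · rw [Polynomial.map_sub, Polynomial.map_pow, map_X, map_C]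
          exact X_pow_sub_C_ne_zero hp.pos _
        · rw [map_sub, map_pow, aeval_X, aeval_C, hy, sub_self]
    have hnor : Normal K L := Normal.of_isSplittingField (X ^ p - C θ)
    exact ⟨⟩
  refine ⟨hfd, hgal, ?_⟩
  by_cases hθ : ∀ s : K, s ^ p ≠ θ
  · right
    have hirr : Irreducible (X ^ p - C θ : K[X]) := X_pow_sub_C_irreducible_of_prime hp hθ
    have hmin : minpoly K y = X ^ p - C θ := by
      refine (minpoly.eq_of_irreducible_of_monic hirr ?_ (monic_X_pow_sub_C _ hp.ne_zero)).symm
      rw [map_sub, map_pow, aeval_X, aeval_C, hy, sub_self]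
    rw [← IntermediateField.finrank_top', ← hgen, IntermediateField.adjoin.finrank hyint, hmin,
      natDegree_X_pow_sub_C]
  · left
    push Not at hθ
    obtain ⟨s, rfl⟩ := hθ
    rcases eq_or_ne s 0 with rfl | hs
    · refine finrank_eq_one_of_mem_bot hgen 0 ?_
      rw [zero_pow hp.ne_zero, map_zero] at hy
      rw [map_zero, (pow_eq_zero_iff hp.ne_zero).1 hy]
    · have hsL : algebraMap K L s ≠ 0 := by rwa [Ne, map_eq_zero]
      have h1 : (y / algebraMap K L s) ^ p = 1 := by
        rw [div_pow, hy, map_pow, div_self (pow_ne_zero _ hsL)]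
      haveI : NeZero p := ⟨hp.ne_zero⟩
      obtain ⟨i, -, hi⟩ := hζL.eq_pow_of_pow_eq_one h1
      refine finrank_eq_one_of_mem_bot hgen (ζ ^ i * s) ?_
      rw [map_mul, map_pow, hi, div_mul_cancel₀ _ hsL]

end degree

variable {A K L : Type u} [CommRing A] [IsDomain A] [IsDiscreteValuationRing A]
  [Field K] [Algebra A K] [IsFractionRing A K] [Field L] [Algebra K L] [Algebra A L]
  [IsScalarTower A K L]

variable {p : ℕ} {P : A[X]}

theorem exists_pow_val_le_one {π : A} (hπ : maximalIdeal A = Ideal.span {π}) (c : K) :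
    ∃ N : ℕ, (RamBasic.vsub A K).valuation (c * algebraMap A K π ^ N) ≤ 1 := by
  have hdom := RamBasic.dominates_vsub A K
  have hπ0 : algebraMap A K π ≠ 0 := by
    have hirr : Irreducible π := (IsDiscreteValuationRing.irreducible_iff_uniformizer π).2 hπ
    rw [Ne, map_eq_zero_iff _ (IsFractionRing.injective A K)]; exact hirr.ne_zero
  rcases eq_or_ne c 0 with rfl | hc
  · exact ⟨0, by rw [zero_mul, map_zero]; exact zero_le⟩
  obtain ⟨m, u, rfl⟩ := exists_zpow hπ hc
  refine ⟨m.natAbs, ?_⟩
  have h1 : algebraMap A K u * algebraMap A K π ^ m * algebraMap A K π ^ m.natAbs =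
      algebraMap A K (u * π ^ (m + m.natAbs).toNat) := by
    rw [map_mul, map_pow, mul_assoc, ← zpow_natCast _ m.natAbs, ← zpow_add₀ hπ0, ← zpow_natCast,
      Int.toNat_of_nonneg (by omega)]
  rw [h1]
  exact RamDVR.valuation_le_one hdom _

/-- the four cases for `K(y)`, `y ^ p ∈ K`. -/
theorem kummer_four [FiniteDimensional K L] [Algebra.IsSeparable K L] (hp : p.Prime)
    [CharP (ResidueField A) p] (hP : IsAS p P) (w : A) (hw0 : w ≠ 0)
    (hwP : C (w ^ p) * P = (1 + C w * X) ^ p - 1)
    (hgl : ∀ x y : L, aeval (x + y + algebraMap A L w * x * y) P =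
      aeval x P + aeval y P + algebraMap A L (w ^ p) * aeval x P * aeval y P)
    (hfin : Module.finrank K L = 1 ∨ Module.finrank K L = p) {π : A}
    (hπ : maximalIdeal A = Ideal.span {π}) (y : L) (θ : K) (hy : y ^ p = algebraMap K L θ)
    (hgen : IntermediateField.adjoin K {y} = ⊤) : Four A K L p := by
  have hfin' : Module.finrank K L ≤ p := by
    rcases hfin with h | h
    · rw [h]; exact hp.one_le
    · exact h.le
  have hdom := RamBasic.dominates_vsub A K
  have hπ0 : algebraMap A K π ≠ 0 := by
    have hirr : Irreducible π := (IsDiscreteValuationRing.irreducible_iff_uniformizer π).2 hπ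
    rw [Ne, map_eq_zero_iff _ (IsFractionRing.injective A K)]; exact hirr.ne_zero
  have hwK : algebraMap A K w ≠ 0 := by
    rwa [Ne, map_eq_zero_iff _ (IsFractionRing.injective A K)]
  rcases eq_or_ne θ 0 with rfl | hθ
  · left
    rw [map_zero, pow_eq_zero_iff hp.ne_zero] at hy
    exact finrank_eq_one_of_mem_bot hgen 0 (by rw [map_zero, hy])
  obtain ⟨m, u, rfl⟩ := exists_zpow hπ hθ
  by_cases hm : (p : ℤ) ∣ m
  · obtain ⟨k, rfl⟩ := hm
    obtain ⟨s, hs⟩ : ∃ s : K, s = algebraMap A K π ^ (-k) := ⟨_, rfl⟩
    have hs0 : s ≠ 0 := by rw [hs]; exact zpow_ne_zero _ hπ0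
    have hsL : algebraMap K L s ≠ 0 := by rwa [Ne, map_eq_zero]
    have hy' : (y * algebraMap K L s) ^ p = algebraMap A L u := by
      rw [mul_pow, hy, ← map_pow, ← map_mul, hs, ← zpow_natCast, ← zpow_mul, mul_assoc,
        ← zpow_add₀ hπ0, show (p : ℤ) * k + -k * p = 0 by ring, zpow_zero, mul_one,
        ← IsScalarTower.algebraMap_apply]
    by_cases hres : ∀ r : A, residue A (u : A) ≠ residue A r ^ p
    · refine Or.inr (Or.inr (Or.inr (insep (K := K) hp hπ hfin' u hres (y * algebraMap K L s) ?_)))
      intro V h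
      rw [hy', sub_self, map_zero]
      exact zero_lt_one
    · push Not at hres
      obtain ⟨r, hr⟩ := hres
      have hrunit : IsUnit r := by
        by_contra hna
        have h1 : residue A r = 0 := (residue_eq_zero_iff r).2 ((mem_maximalIdeal r).2 hna)
        rw [h1, zero_pow hp.ne_zero, residue_eq_zero_iff, mem_maximalIdeal] at hr
        exact hr u.isUnit
      obtain ⟨r, rfl⟩ := hrunit
      obtain ⟨t, ht⟩ : ∃ t : A, t = u * ((r⁻¹ : Aˣ) : A) ^ p := ⟨_, rfl⟩
      have ht1 : t - 1 ∈ maximalIdeal A := by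
        rw [← residue_eq_zero_iff, ht, map_sub, map_mul, map_pow, map_one, hr, ← mul_pow, ← map_mul,
          Units.mul_inv, map_one, one_pow, sub_self]
      obtain ⟨y₂, hy₂⟩ : ∃ y₂ : L, y₂ = y * algebraMap K L s * algebraMap A L ((r⁻¹ : Aˣ) : A) := ⟨_, rfl⟩
      have hy₂p : y₂ ^ p = algebraMap A L t := by
        rw [hy₂, mul_pow, hy', ht, map_mul, map_pow]
      have hwL : algebraMap A L w ≠ 0 := by
        rw [IsScalarTower.algebraMap_apply A K L, Ne, map_eq_zero]; exact hwK
      obtain ⟨z, hz⟩ : ∃ z : L, z = (y₂ - 1) / algebraMap A L w := ⟨_, rfl⟩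
      have hzy : y₂ = 1 + algebraMap A L w * z := by
        rw [hz]; field_simp; ring
      have hPz : algebraMap A L w ^ p * aeval z P = algebraMap A L t - 1 := by
        have h1 := congrArg (aeval z) hwP
        simp only [map_mul, map_sub, map_pow, map_add, map_one, aeval_X, aeval_C] at h1
        rw [h1, ← hzy, hy₂p]
      obtain ⟨ξ, hξ⟩ : ∃ ξ : K, ξ = (algebraMap A K t - 1) / algebraMap A K w ^ p := ⟨_, rfl⟩
      have hPz' : aeval z P = algebraMap K L ξ := by
        apply mul_left_cancel₀ (pow_ne_zero p hwL)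
        rw [hPz, hξ, map_div₀, map_sub, map_one, map_pow, ← IsScalarTower.algebraMap_apply,
          ← IsScalarTower.algebraMap_apply, mul_div_cancel₀ _ (pow_ne_zero p hwL)]
      obtain ⟨N, hN⟩ := exists_pow_val_le_one hπ ξ
      refine trichotomy hp hP w hwP hgl hfin hπ N z ξ hPz' ?_ ?_ hN
      · refine adjoin_eq_top_of hgen ?_
        have hrL : algebraMap A L (r : A) * algebraMap A L ((r⁻¹ : Aˣ) : A) = 1 := by
          rw [← map_mul, Units.mul_inv, map_one]
        have h1 : y = (1 + algebraMap K L (algebraMap A K w) * z) * algebraMap K L (algebraMap A K r) *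
            (algebraMap K L s)⁻¹ := by
          rw [← IsScalarTower.algebraMap_apply, ← IsScalarTower.algebraMap_apply, ← hzy, hy₂]
          rw [eq_mul_inv_iff_mul_eq₀ hsL]
          linear_combination (-(y * algebraMap K L s)) * hrL
        rw [h1]
        refine mul_mem (mul_mem (add_mem (one_mem _) (mul_mem (IntermediateField.algebraMap_mem _ _)
          (IntermediateField.subset_adjoin K _ rfl))) (IntermediateField.algebraMap_mem _ _))
          (inv_mem (IntermediateField.algebraMap_mem _ _))
      · have h1 : algebraMap A K w ^ p * ξ = algebraMap A K (t - 1) := by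
          rw [hξ, map_sub, map_one, mul_div_cancel₀ _ (pow_ne_zero p hwK)]
        rw [h1]
        exact (RamDVR.valuation_lt_one_iff hdom _).2 ht1
  · refine Or.inr (Or.inr (Or.inl (caseB' (K := K) hp hfin' hπ y m hm ?_)))
    intro V h
    rw [← map_pow, hy, val_zpow h]

end K363.RamCases
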